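import Cfsg.Agent.Lib.SmallGroups.DegreeTwoP.Block
import Mathlib

/-!
Degrees and trivial multiplicities on a Sylow subgroup of order `p`, and the constituents of a
character that restricts to it as twice the regular character.
-/

set_option autoImplicit false

namespace CfsgLib.SmallGroups.DegreeTwoP

open Subgroup CfsgLib.InvolChar Cfsg
open CfsgLib.SmallGroups.BrauerFew (Loc)
open scoped ComplexConjugate

variable {H : Type*} [Group H] [Fintype H] {p e t : ℕ} [Fact p.Prime] {ε : ℤ} {x : H}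

theorem exists_fixedMult (hx : Nat.card (zpowers x) = p) :
    ∃ a : IrrCharacter H → ℕ, ∀ (_ : Fintype (zpowers x)) (χ : IrrCharacter H),
      ∑ u : zpowers x, (χ : H → ℂ) u = (p : ℂ) * a χ := by
  classical
  haveI := Fintype.ofFinite (zpowers x)
  choose k hk using fun χ : IrrCharacter H => CfsgLib.Char.classInner_char_nat
    (CfsgLib.Char.isCharacter_res (zpowers x) (CfsgLib.Char.isCharacter_of_isIrr χ.2))
    CfsgLib.Char.isCharacter_one
  refine ⟨k, fun i χ => ?_⟩
  obtain rfl : i = Fintype.ofFinite (zpowers x) := Subsingleton.elim _ _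
  have hp0 : (p : ℂ) ≠ 0 := by exact_mod_cast (Fact.out : p.Prime).ne_zero
  rw [← hk χ, CfsgLib.Char.classInner_one_right, hx, mul_inv_cancel_left₀ hp0]
  exact Finset.sum_congr (by ext; simp) fun _ _ => rfl

/-- A sum over `⟨x⟩` from a constant value on the nontrivial elements. -/
theorem sum_zpowers_const [Fintype (zpowers x)] (hx : Nat.card (zpowers x) = p) (F : H → ℂ) (c : ℂ)
    (hF : ∀ u ∈ zpowers x, u ≠ 1 → F u = c) :
    ∑ u : zpowers x, F u = F 1 + ((p : ℂ) - 1) * c := by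
  classical
  rw [← Finset.add_sum_erase _ _ (Finset.mem_univ (1 : zpowers x)),
    Finset.sum_congr rfl (g := fun _ => c) fun (u : zpowers x) hu =>
      hF u u.2 fun h => Finset.ne_of_mem_erase hu (Subtype.ext h),
    Finset.sum_const, Finset.card_erase_of_mem (Finset.mem_univ _), Finset.card_univ,
    ← Nat.card_eq_fintype_card, hx, nsmul_eq_mul, Nat.cast_sub (Fact.out : p.Prime).one_le,
    OneMemClass.coe_one, Nat.cast_one]

/-- The non-exceptional and the exceptional characters. -/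
theorem kind (L : Loc H p x) (D : PData H p e t ε x) (hpe : p = e * t + 1) (ht : 0 < t)
    {a : IrrCharacter H → ℕ}
    (ha : ∀ (_ : Fintype (zpowers x)) (χ : IrrCharacter H),
      ∑ u : zpowers x, (χ : H → ℂ) u = (p : ℂ) * a χ) (χ : IrrCharacter H) :
    (∃ σ : ℤ, (σ = 0 ∨ σ = 1 ∨ σ = -1) ∧ (p : ℤ) * a χ = deg χ + ((p : ℤ) - 1) * σ) ∨
      (χ ∈ D.Y ∧ 2 ≤ t) := by
  classical
  haveI := Fintype.ofFinite (zpowers x)
  have hx := L.card_zpowers_eq
  obtain ⟨σ, hσ, hval⟩ | hY : (∃ σ : ℤ, (σ = 0 ∨ σ = 1 ∨ σ = -1) ∧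
      ∀ u ∈ zpowers x, u ≠ 1 → (χ : H → ℂ) u = (σ : ℂ)) ∨ (χ ∈ D.Y ∧ 2 ≤ t) := by
    by_cases hY : χ ∈ D.Y
    · by_cases ht1 : t = 1
      · left
        obtain ⟨θ, hθ⟩ := Finset.card_eq_one.mp (D.card_Y.trans ht1)
        rw [hθ, Finset.mem_singleton] at hY
        refine ⟨-ε, by rcases D.eps with h | h <;> omega, fun u hu h1 => ?_⟩
        have h := D.sum_Y u hu h1
        rw [hθ, Finset.sum_singleton] at h
        rw [hY, h]
        push_cast
        rfl
      · exact Or.inr ⟨hY, by omega⟩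
    · exact Or.inl ⟨D.sign χ, D.sign_cases χ, D.val χ hY⟩
  · left
    refine ⟨σ, hσ, ?_⟩
    have h := sum_zpowers_const hx (χ : H → ℂ) (σ : ℂ) hval
    rw [ha inferInstance χ, deg_spec] at h
    apply Int.cast_injective (α := ℂ)
    push_cast
    exact h
  · exact Or.inr hY

/-- The exceptional characters when their trivial multiplicities add up to at most one. -/
theorem family (L : Loc H p x) (D : PData H p e t ε x) (hpe : p = e * t + 1) (he : 2 ≤ e) (ht : 2 ≤ t)
    {a : IrrCharacter H → ℕ}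
    (ha : ∀ (_ : Fintype (zpowers x)) (χ : IrrCharacter H),
      ∑ u : zpowers x, (χ : H → ℂ) u = (p : ℂ) * a χ) (hsum : ∑ θ ∈ D.Y, a θ ≤ 1) :
    D.f = e ∧ ε = 1 ∧ ∀ θ ∈ D.Y, a θ = 0 := by
  classical
  haveI := Fintype.ofFinite (zpowers x)
  have hx := L.card_zpowers_eq
  have h : ((p : ℤ) * ((∑ θ ∈ D.Y, a θ : ℕ) : ℤ)) = (t : ℤ) * D.f - ε * ((p : ℤ) - 1) := by
    apply Int.cast_injective (α := ℂ)
    push_cast
    rw [Finset.mul_sum, ← Finset.sum_congr rfl fun θ _ => ha inferInstance θ, Finset.sum_comm,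
      sum_zpowers_const hx (fun u => ∑ θ ∈ D.Y, (θ : H → ℂ) u) (-(ε : ℂ)) D.sum_Y,
      Finset.sum_congr rfl fun θ hθ => (deg_spec θ).trans (congrArg Nat.cast (D.deg_Y θ hθ)),
      Finset.sum_const, D.card_Y, nsmul_eq_mul]
    ring
  obtain ⟨b, hb⟩ := D.mod_Y
  have hp0 : (0 : ℤ) < p := by exact_mod_cast (Fact.out : p.Prime).pos
  have hpz : (p : ℤ) = e * t + 1 := by exact_mod_cast hpe
  have hS : ((∑ θ ∈ D.Y, a θ : ℕ) : ℤ) = t * b := by
    refine mul_left_cancel₀ hp0.ne' ?_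
    linear_combination h + (t : ℤ) * hb - ε * hpz
  have hS1 : ((∑ θ ∈ D.Y, a θ : ℕ) : ℤ) ≤ 1 := by exact_mod_cast hsum
  have hb0 : b = 0 := by
    rcases lt_trichotomy b 0 with h1 | h1 | h1
    · nlinarith [Int.natCast_nonneg (∑ θ ∈ D.Y, a θ)]
    · exact h1
    · nlinarith
  rw [hb0, mul_zero] at hS hb
  have hzero : ∑ θ ∈ D.Y, a θ = 0 := by exact_mod_cast hS
  obtain ⟨θ, hθ⟩ := Finset.card_pos.mp (show 0 < D.Y.card by rw [D.card_Y]; omega)
  have hfpos : 0 < D.f := D.deg_Y θ hθ ▸ deg_pos θ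
  refine ⟨?_, ?_, fun θ hθ => Finset.sum_eq_zero_iff.mp hzero θ hθ⟩ <;>
    rcases D.eps with h' | h' <;> subst h' <;> omega

theorem arith {p d a : ℕ} {σ : ℤ} (hp : 3 ≤ p) (hd : 2 ≤ d) (hσ : σ = 0 ∨ σ = 1 ∨ σ = -1)
    (h : (p : ℤ) * a = d + ((p : ℤ) - 1) * σ) :
    (p + 1) * a ≤ 2 * d ∧ (a = 1 → d = p ∨ d + 1 = 2 * p) ∧ (a = 0 → d + 1 = p) := by
  rcases hσ with rfl | rfl | rfl
  · simp only [mul_zero, add_zero] at h
    have h' : p * a = d := by exact_mod_cast h
    refine ⟨by rw [← h']; nlinarith, fun ha => ?_, fun ha => ?_⟩ <;> subst ha <;> omega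
  · have h' : p * a + 1 = d + p := by
      have : (p : ℤ) * a + 1 = d + p := by linarith
      exact_mod_cast this
    refine ⟨?_, fun ha => ?_, fun ha => ?_⟩
    · have : 2 ≤ a := by
        by_contra hlt
        interval_cases a <;> omega
      nlinarith
    all_goals subst ha; omega
  · have h' : p * a + p = d + 1 := by
      have : (p : ℤ) * a + p = d + 1 := by linarith
      exact_mod_cast this
    refine ⟨by nlinarith, fun ha => ?_, fun ha => ?_⟩ <;> subst ha <;> omega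

/-- There are at most two exceptional characters of degree `e`. -/
theorem family_le_two (L : Loc H p x) (D : PData H p e t ε x) (hpe : p = e * t + 1) (he : 2 ≤ e)
    (ht : 2 ≤ t) {a : IrrCharacter H → ℕ}
    (ha : ∀ (_ : Fintype (zpowers x)) (χ : IrrCharacter H),
      ∑ u : zpowers x, (χ : H → ℂ) u = (p : ℂ) * a χ)
    (hf : D.f = e) (ha0 : ∀ θ ∈ D.Y, a θ = 0) : t ≤ 2 := by
  classical
  haveI := Fintype.ofFinite (zpowers x)
  have hx := L.card_zpowers_eq
  set one : IrrCharacter H := CfsgLib.Char.irrOne with hone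
  set F : IrrCharacter H → (H → ℂ) := fun θ => (θ : H → ℂ) * fun g => conj ((θ : H → ℂ) g) with hF
  have hψc : Cfsg.IsCharacter H (∑ θ ∈ D.Y, F θ) := CfsgLib.Char.isCharacter_sum _ fun θ _ =>
    CfsgLib.Char.isCharacter_mul (CfsgLib.Char.isCharacter_of_isIrr θ.2)
      (CfsgLib.Char.isCharacter_conj (CfsgLib.Char.isCharacter_of_isIrr θ.2))
  obtain ⟨m, hm, hmi⟩ := CfsgLib.Char.char_decomp hψc
  set ψ := ∑ θ ∈ D.Y, F θ with hψ
  have hψv : ∀ g, ψ g = ∑ θ ∈ D.Y, (θ : H → ℂ) g * conj ((θ : H → ℂ) g) := fun g => by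
    simp [hψ, hF, Finset.sum_apply]
  have hψ1 : ψ 1 = (t : ℂ) * e * e := by
    rw [hψv, Finset.sum_congr rfl (g := fun _ => (e : ℂ) * e) fun θ hθ => by
      rw [deg_spec, D.deg_Y θ hθ, hf, Complex.conj_natCast], Finset.sum_const, D.card_Y, nsmul_eq_mul]
    ring
  have hψP : ∑ u : zpowers x, ψ u = (p : ℂ) * ((t : ℂ) * e) := by
    rw [sum_zpowers_const hx ψ ((p : ℂ) - e) fun u hu h1 => by rw [hψv]; exact D.sq_Y u hu h1, hψ1]
    have hpz : (p : ℂ) = e * t + 1 := by exact_mod_cast hpe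
    rw [hpz]; ring
  have hm1 : m one = t := by
    have h := hmi one
    rw [hψ, CfsgLib.Char.classInner_sum_left, Finset.sum_congr rfl (g := fun _ => (1 : ℂ)) fun θ _ => ?_,
      Finset.sum_const, D.card_Y, nsmul_one] at h
    · exact_mod_cast h.symm
    · rw [← CfsgLib.Char.classInner_irr_self θ.2, hone,
        show ((CfsgLib.Char.irrOne : IrrCharacter H) : H → ℂ) = fun _ => 1 from
          funext CfsgLib.Char.irrOne_apply]
      simp [CfsgLib.Char.classInner_def, hF]
  have hdeg : ∑ χ, m χ * deg χ = t * e * e := by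
    have h := congrFun hm 1
    simp only [Finset.sum_apply, Pi.smul_apply, smul_eq_mul, deg_spec] at h
    rw [hψ1] at h
    exact_mod_cast h.symm
  have hfix : ∑ χ, m χ * a χ = t * e := by
    have h : ∑ u : zpowers x, ψ u = ∑ u : zpowers x, ∑ χ, (m χ : ℂ) * (χ : H → ℂ) u :=
      Finset.sum_congr rfl fun u _ => by
        have := congrFun hm (u : H)
        simpa [Finset.sum_apply] using this
    rw [Finset.sum_comm, hψP] at h
    simp only [← Finset.mul_sum, ha inferInstance] at h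
    have hp0 : (p : ℂ) ≠ 0 := by exact_mod_cast (Fact.out : p.Prime).ne_zero
    have h' : (t : ℂ) * e = ∑ χ, (m χ : ℂ) * a χ := by
      refine mul_left_cancel₀ hp0 ?_
      rw [h, Finset.mul_sum]
      exact Finset.sum_congr rfl fun χ _ => by ring
    exact_mod_cast h'.symm
  have ha1 : a one = 1 := by
    have h := sum_zpowers_const hx (one : H → ℂ) 1 fun u _ _ => by rw [hone, CfsgLib.Char.irrOne_apply]
    rw [ha inferInstance one, hone, CfsgLib.Char.irrOne_apply] at h
    have h' : (p : ℂ) * a one = p * 1 := by rw [hone]; linear_combination h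
    exact_mod_cast mul_left_cancel₀ (by exact_mod_cast (Fact.out : p.Prime).ne_zero) h'
  rw [← Finset.add_sum_erase _ _ (Finset.mem_univ one), hm1, ha1] at hfix
  rw [← Finset.add_sum_erase _ _ (Finset.mem_univ one), hm1, hone, deg_irrOne, ← hone] at hdeg
  have hp3 : 3 ≤ p := by nlinarith
  have hineq : (p + 1) * ∑ χ ∈ Finset.univ.erase one, m χ * a χ ≤
      2 * ∑ χ ∈ Finset.univ.erase one, m χ * deg χ := by
    rw [Finset.mul_sum, Finset.mul_sum]
    refine Finset.sum_le_sum fun χ hχ => ?_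
    have h : (p + 1) * a χ ≤ 2 * deg χ := by
      rcases kind L D hpe (by omega) ha χ with ⟨σ, hσ, hd⟩ | ⟨hY, -⟩
      · exact (arith hp3 (CfsgLib.SmallGroups.BrauerFew.one_lt_deg L.perfect
          (Finset.ne_of_mem_erase hχ)) hσ hd).1
      · rw [ha0 χ hY, mul_zero]; exact Nat.zero_le _
    calc (p + 1) * (m χ * a χ) = m χ * ((p + 1) * a χ) := by ring
      _ ≤ m χ * (2 * deg χ) := Nat.mul_le_mul_left _ h
      _ = 2 * (m χ * deg χ) := by ring
  by_contra ht3
  push Not at ht3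
  set A := ∑ χ ∈ Finset.univ.erase one, m χ * a χ
  set B := ∑ χ ∈ Finset.univ.erase one, m χ * deg χ
  have h1 : (t : ℤ) + A = t * e := by exact_mod_cast (by simpa using hfix : t + A = t * e)
  have h2 : (t : ℤ) + B = t * e * e := by exact_mod_cast (by simpa using hdeg : t + B = t * e * e)
  have h3 : ((p : ℤ) + 1) * A ≤ 2 * B := by exact_mod_cast hineq
  have h4 : (p : ℤ) = e * t + 1 := by exact_mod_cast hpe
  rw [h4, show (A : ℤ) = t * e - t by linarith, show (B : ℤ) = t * e * e - t by linarith] at h3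
  have he' : (2 : ℤ) ≤ e := by exact_mod_cast he
  have ht' : (3 : ℤ) ≤ t := by exact_mod_cast ht3
  nlinarith [mul_pos (mul_pos (show (0 : ℤ) < t by omega) (show (0 : ℤ) < e - 1 by omega))
    (mul_pos (show (0 : ℤ) < e by omega) (show (0 : ℤ) < t - 2 by omega))]

end CfsgLib.SmallGroups.DegreeTwoP
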