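import Cfsg.Agent.Lib.SmallGroups.BrauerFew.TuanSetup
import Mathlib

/-!
The values on a self-centralising Sylow subgroup of prime order of all irreducible characters of a
perfect group: vanishing, sign `± 1`, or the exceptional family.
-/

set_option autoImplicit false

namespace CfsgLib.SmallGroups.DegreeTwoP

open Subgroup CfsgLib.InvolChar CfsgLib.Blocks CfsgLib.Blocks.PrimeSylow Cfsg
open CfsgLib.SmallGroups.BrauerFew (Loc)
open scoped ComplexConjugate

/-- The trichotomy for the characters of `H` on `⟨x⟩`. -/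
structure PData (H : Type*) [Group H] [Finite H] (p e t : ℕ) (ε : ℤ) (x : H) where
  Y : Finset (IrrCharacter H)
  sign : IrrCharacter H → ℤ
  f : ℕ
  card_Y : Y.card = t
  sign_cases : ∀ χ, sign χ = 0 ∨ sign χ = 1 ∨ sign χ = -1
  val : ∀ χ, χ ∉ Y → ∀ u ∈ zpowers x, u ≠ 1 → (χ : H → ℂ) u = (sign χ : ℂ)
  deg_Y : ∀ θ ∈ Y, deg θ = f
  mod_Y : (p : ℤ) ∣ (f : ℤ) - ε * e
  eps : ε = 1 ∨ ε = -1
  eq_Y : ∀ θ ∈ Y, ∀ θ' ∈ Y, ∀ g : H, ¬ p ∣ orderOf g → (θ : H → ℂ) g = (θ' : H → ℂ) g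
  sum_Y : ∀ u ∈ zpowers x, u ≠ 1 → ∑ θ ∈ Y, (θ : H → ℂ) u = -(ε : ℂ)
  sq_Y : ∀ u ∈ zpowers x, u ≠ 1 → ∑ θ ∈ Y, (θ : H → ℂ) u * conj ((θ : H → ℂ) u) = (p : ℂ) - e

theorem exists_pdata {H : Type*} [Group H] [Fintype H] {p : ℕ} [Fact p.Prime] {x : H}
    (L : Loc H p x) :
    ∃ (P : Sylow p H) (e t : ℕ) (ε : ℤ), (P : Subgroup H) = zpowers x ∧ 2 ≤ e ∧ 0 < t ∧
      p = e * t + 1 ∧
      (centralizer ((P : Subgroup H) : Set H)).relIndex (normalizer ((P : Subgroup H) : Set H)) = e ∧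
      Nonempty (PData H p e t ε x) := by
  classical
  have hp : p.Prime := Fact.out
  obtain ⟨P, hPx, hP⟩ := L.exists_sylow
  obtain ⟨e, t, n, he2, ht0, -, hpe, -, -, -, hrel, -⟩ := L.exists_numbers P hPx
  refine ⟨P, e, t, ?_⟩
  obtain ⟨M, hM⟩ := CfsgLib.Invol.exists_isPModular p hp
  haveI := hM.2.1
  obtain ⟨X, Y, hB, hXY, hXc, hYc, -, εX, ε, hX, hε, hYdeg, hYeq, hYrel⟩ :=
    principal_block_prime_sylow P hM hP e hrel
  refine ⟨ε, hPx, he2, ht0, hpe, hrel, ?_⟩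
  rw [show (p - 1) / e = t by rw [hpe, Nat.add_sub_cancel, Nat.mul_div_cancel_left _ (by omega)]] at hYc
  let Xf : Finset (IrrCharacter H) := Finset.univ.filter (· ∈ X)
  let Yf : Finset (IrrCharacter H) := Finset.univ.filter (· ∈ Y)
  have hXf : ∀ χ, χ ∈ Xf ↔ χ ∈ X := fun χ => by simp [Xf]
  have hYf : ∀ χ, χ ∈ Yf ↔ χ ∈ Y := fun χ => by simp [Yf]
  have hXcard : Xf.card = e := by rw [← hXc, Nat.card_eq_fintype_card, Fintype.card_subtype]
  have hYcard : Yf.card = t := by rw [← hYc, Nat.card_eq_fintype_card, Fintype.card_subtype]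
  have hblock : ∀ χ, χ ∈ principalBlock M H ↔ χ ∈ Xf ∪ Yf := fun χ => by
    rw [hB, Finset.mem_union, hXf, hYf, Set.mem_union]
  have hdisj : Disjoint Xf Yf := Finset.disjoint_left.mpr fun χ h h' =>
    Set.disjoint_left.mp hXY ((hXf χ).mp h) ((hYf χ).mp h')
  have hsumBlock : ∀ F : IrrCharacter H → ℂ,
      (∑ χ, if χ ∈ principalBlock M H then F χ else 0) = ∑ χ ∈ Xf, F χ + ∑ χ ∈ Yf, F χ := fun F => by
    rw [← Finset.sum_union hdisj, ← Finset.sum_filter]
    exact Finset.sum_congr (by ext χ; simp [hblock]) fun _ _ => rfl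
  have hmem : ∀ u ∈ zpowers x, u ≠ 1 → ∃ i : ZMod p, i ≠ 0 ∧ pw P hP i = u := fun u hu h1 => by
    obtain ⟨i, hi⟩ := pw_surjOn P hP (hPx ▸ hu : u ∈ (P : Subgroup H))
    exact ⟨i, fun h => h1 (by rw [← hi, h, pw_zero]), hi⟩
  have hXval : ∀ χ ∈ Xf, ∀ u ∈ zpowers x, u ≠ 1 → (χ : H → ℂ) u = (εX χ : ℂ) := by
    intro χ hχ u hu h1
    have := (hX χ ((hXf χ).mp hχ)).2.2 u (hPx ▸ hu) h1 1 (one_mem _)
      (by rw [orderOf_one]; exact hp.not_dvd_one)
    rwa [mul_one] at this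
  have hXsign : ∀ χ ∈ Xf, εX χ = 1 ∨ εX χ = -1 := fun χ hχ => (hX χ ((hXf χ).mp hχ)).1
  have hzero : ∀ χ, χ ∉ Xf → χ ∉ Yf → ∀ u ∈ zpowers x, u ≠ 1 → (χ : H → ℂ) u = 0 := by
    intro χ hχX hχY u hu h1
    obtain ⟨i, hi, rfl⟩ := hmem u hu h1
    have hb := column_inner P hM hP hi hi
    rw [if_pos (IsConj.refl _)] at hb
    have hall := CfsgLib.Char.second_orthogonality (pw P hP i) (pw P hP i)
    rw [if_pos (IsConj.refl _), L.centralizer_of_mem hu h1, L.card_zpowers_eq] at hall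
    have hdiff : ∑ χ : IrrCharacter H, (if χ ∈ principalBlock M H then 0 else
        Complex.normSq ((χ : H → ℂ) (pw P hP i)) : ℝ) = 0 := by
      have h2 : (∑ χ : IrrCharacter H, ((if χ ∈ principalBlock M H then 0 else
          Complex.normSq ((χ : H → ℂ) (pw P hP i)) : ℝ) : ℂ)) = 0 := by
        calc _ = ∑ χ : IrrCharacter H, ((χ : H → ℂ) (pw P hP i) * conj ((χ : H → ℂ) (pw P hP i)) -
              if χ ∈ principalBlock M H then
                (χ : H → ℂ) (pw P hP i) * conj ((χ : H → ℂ) (pw P hP i)) else 0) :=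
              Finset.sum_congr rfl fun χ _ => by split_ifs <;> simp [Complex.mul_conj]
          _ = 0 := by rw [Finset.sum_sub_distrib, hall, hb, sub_self]
      exact_mod_cast h2
    have h3 := (Finset.sum_eq_zero_iff_of_nonneg fun χ _ => by
      split_ifs
      · exact le_rfl
      · exact Complex.normSq_nonneg _).mp hdiff χ (Finset.mem_univ χ)
    rw [if_neg (by rw [hblock, Finset.mem_union]; tauto)] at h3
    exact Complex.normSq_eq_zero.mp h3
  obtain ⟨θ₀, hθ₀⟩ := Finset.card_pos.mp (hYcard ▸ ht0 : 0 < Yf.card)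
  set f := deg θ₀ with hf
  have hYd : ∀ θ ∈ Yf, deg θ = f := by
    intro θ hθ
    have h := hYeq θ ((hYf θ).mp hθ) θ₀ ((hYf θ₀).mp hθ₀) 1 (by rw [orderOf_one]; exact hp.not_dvd_one)
    rw [deg_spec θ, deg_spec θ₀] at h
    exact_mod_cast h
  have hrel1 : ∑ χ ∈ Xf, (εX χ : ℂ) * (deg χ : ℂ) = (ε : ℂ) * (f : ℂ) := by
    have h := hYrel θ₀ ((hYf θ₀).mp hθ₀) 1 (by rw [orderOf_one]; exact hp.not_dvd_one)
    rw [finsum_mem_eq_sum_of_inter_support_eq (t := Xf) _ (by ext χ; simp [Xf])] at h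
    simp only [fun χ : IrrCharacter H => deg_spec χ] at h
    exact h.symm
  refine ⟨{
    Y := Yf
    sign := fun χ => if χ ∈ Xf then εX χ else 0
    f := f
    card_Y := hYcard
    sign_cases := fun χ => ?_
    val := fun χ hχY u hu h1 => ?_
    deg_Y := hYd
    mod_Y := ?_
    eps := hε
    eq_Y := fun θ hθ θ' hθ' => hYeq θ ((hYf θ).mp hθ) θ' ((hYf θ').mp hθ')
    sum_Y := fun u hu h1 => ?_
    sq_Y := fun u hu h1 => ?_ }⟩
  · split_ifs with h
    · exact Or.inr (hXsign χ h)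
    · exact Or.inl rfl
  · split_ifs with h
    · exact hXval χ h u hu h1
    · simpa using hzero χ h hχY u hu h1
  · have h := hYdeg θ₀ ((hYf θ₀).mp hθ₀)
    rw [CfsgLib.SmallGroups.BrauerFew.deg_eq_charDegree] at h
    exact Int.ModEq.dvd h.symm
  · obtain ⟨i, hi, rfl⟩ := hmem u hu h1
    have h := column_regular P hM hP hi (g := 1) (by rw [orderOf_one]; exact hp.not_dvd_one)
    rw [hsumBlock] at h
    simp only [fun χ : IrrCharacter H => deg_spec χ] at h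
    rw [Finset.sum_congr rfl fun χ hχ => by rw [hXval χ hχ _ hu h1], hrel1,
      Finset.sum_congr rfl fun θ hθ => by rw [hYd θ hθ], ← Finset.sum_mul] at h
    have hf' : (f : ℂ) ≠ 0 := by exact_mod_cast (deg_pos θ₀).ne'
    have h' : (∑ θ ∈ Yf, (θ : H → ℂ) (pw P hP i) + (ε : ℂ)) * (f : ℂ) = 0 := by linear_combination h
    linear_combination (mul_eq_zero.mp h').resolve_right hf'
  · obtain ⟨i, hi, rfl⟩ := hmem u hu h1
    have h := column_inner P hM hP hi hi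
    rw [if_pos (IsConj.refl _), hsumBlock,
      Finset.sum_congr rfl fun (χ : IrrCharacter H) hχ => show (χ : H → ℂ) (pw P hP i) *
          conj ((χ : H → ℂ) (pw P hP i)) = 1 by
        rw [hXval χ hχ _ hu h1]
        rcases hXsign χ hχ with h | h <;> simp [h],
      Finset.sum_const, hXcard, nsmul_one] at h
    linear_combination h

end CfsgLib.SmallGroups.DegreeTwoP
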