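import Cfsg.Agent.Lib.SmallGroups.DegreeTwoP.Exceptional
import Cfsg.Agent.Lib.SmallGroups.PermSubdegree
import Mathlib

/-!
The permutation character of a perfect transitive group of degree `2p` with a self-centralising,
fixed-point-free element of order `p`.
-/

set_option autoImplicit false

namespace CfsgLib.SmallGroups.DegreeTwoP

open Subgroup CfsgLib.InvolChar Cfsg
open CfsgLib.SmallGroups.BrauerFew (Loc)
open scoped ComplexConjugate

variable {H : Type*} [Group H] [Fintype H] {p : ℕ} [Fact p.Prime] {x : H}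
  {Ω : Type*} [Fintype Ω] [MulAction H Ω]

/-- Either two suborbits, or `1 + c + S` with three or four of them. -/
theorem char_cases [MulAction.IsPretransitive H Ω] (hp3 : 3 ≤ p) (hΩ : Fintype.card Ω = 2 * p)
    (L : Loc H p x) (hfpf : ∀ g : H, orderOf g = p → ∀ z : Ω, g • z ≠ z) (a₀ : Ω) :
    Nat.card (MulAction.orbitRel.Quotient (MulAction.stabilizer H a₀) Ω) ≤ 2 ∨
    ∃ (c : IrrCharacter H) (S : Finset (IrrCharacter H)),
      c ≠ CfsgLib.Char.irrOne ∧ CfsgLib.Char.irrOne ∉ S ∧ c ∉ S ∧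
      classInner (fun g : H => (Nat.card (MulAction.fixedBy Ω g) : ℂ)) c = 1 ∧
      (∀ χ ∈ S, classInner (fun g : H => (Nat.card (MulAction.fixedBy Ω g) : ℂ)) χ = 1) ∧
      (∀ χ : IrrCharacter H, χ ≠ CfsgLib.Char.irrOne → χ ≠ c → χ ∉ S →
        classInner (fun g : H => (Nat.card (MulAction.fixedBy Ω g) : ℂ)) χ = 0) ∧
      deg c = p ∧ ∑ χ ∈ S, deg χ + 1 = p ∧
      (∀ χ ∈ S, ∀ χ' ∈ S, χ' = χ ∨ ∀ g : H, (χ' : H → ℂ) g = (χ : H → ℂ) g⁻¹) ∧
      Nat.card (MulAction.orbitRel.Quotient (MulAction.stabilizer H a₀) Ω) = 2 + S.card ∧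
      (S.card = 1 ∨ (S.card = 2 ∧ ∃ e, p = 2 * e + 1 ∧ Odd e)) := by
  classical
  have hp : p.Prime := Fact.out
  set π : H → ℂ := fun g => (Nat.card (MulAction.fixedBy Ω g) : ℂ) with hπ
  have hπ0 : ∀ g : H, orderOf g = p → π g = 0 := fun g hg => by
    haveI : IsEmpty (MulAction.fixedBy Ω g) := ⟨fun z => hfpf g hg z.1 z.2⟩
    simp only [hπ]
    rw [Nat.card_of_isEmpty, Nat.cast_zero]
  haveI : Nonempty Ω := ⟨a₀⟩
  obtain ⟨m, d, hm1, hmi, hd, hdsum, hrank⟩ := PermOrbital.exists_multiplicities (G := H) (Ω := Ω) a₀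
  have hdd : ∀ χ, d χ = deg χ := fun χ => by
    have h := (hd χ).1
    rw [deg_spec] at h
    exact_mod_cast h.symm
  simp only [hdd, hΩ] at hdsum
  obtain ⟨P, e, t, ε, hPx, he, ht, hpe, hrel, ⟨D⟩⟩ := exists_pdata L
  obtain ⟨a, ha⟩ := exists_fixedMult (H := H) L.card_zpowers_eq
  haveI := Fintype.ofFinite (zpowers x)
  have hfix : ∑ χ, m χ * a χ = 2 := by
    have hcl := CfsgLib.Char.isClassFunction_of_isCharacter
      (CfsgLib.Char.isCharacter_permChar (G := H) (X := Ω))
    have hπeq : ∀ g, π g = ∑ χ : IrrCharacter H, (m χ : ℂ) * (χ : H → ℂ) g := fun g => by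
      have h := congrFun (CfsgLib.Char.classFun_eq_sum hcl) g
      simpa only [Finset.sum_apply, Pi.smul_apply, smul_eq_mul, hmi] using h
    have h1 : ∑ u : zpowers x, π u = 2 * (p : ℂ) := by
      rw [sum_zpowers_const L.card_zpowers_eq π 0 fun u hu h1 => hπ0 u (L.orderOf_of_mem hu h1)]
      simp [hπ, MulAction.fixedBy, hΩ, Nat.card_eq_fintype_card]
    simp only [hπeq] at h1
    rw [Finset.sum_comm] at h1
    simp only [← Finset.mul_sum, ha inferInstance] at h1
    have h2 : (p : ℂ) * ∑ χ, (m χ : ℂ) * a χ = p * 2 := by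
      rw [mul_comm (p : ℂ) 2, ← h1, Finset.mul_sum]
      exact Finset.sum_congr rfl fun χ _ => by ring
    exact_mod_cast mul_left_cancel₀ (by exact_mod_cast hp.ne_zero) h2
  have hmY : ∀ θ ∈ D.Y, ∀ θ' ∈ D.Y, m θ = m θ' := by
    intro θ hθ θ' hθ'
    have h : classInner π θ = classInner π θ' := by
      rw [CfsgLib.Char.classInner_def, CfsgLib.Char.classInner_def]
      congr 1
      refine Finset.sum_congr rfl fun g _ => ?_
      by_cases hg : p ∣ orderOf g
      · rw [hπ0 g (L.orderOf_eq hg), zero_mul, zero_mul]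
      · rw [D.eq_Y θ hθ θ' hθ' g hg]
    rw [hmi, hmi] at h
    exact_mod_cast h
  obtain ⟨c, S, hc1, hmc, hS1, hcS, hmS, hzero, hdegsum, hcase⟩ :=
    constituents L D hpe he ht hp3 ha hm1 hdsum hfix fun _ => hmY
  have hrk : Nat.card (MulAction.orbitRel.Quotient (MulAction.stabilizer H a₀) Ω) = 2 + S.card := by
    rw [← hrank, ← Finset.sum_subset (Finset.subset_univ (insert CfsgLib.Char.irrOne (insert c S)))
      fun χ _ hχ => by
        simp only [Finset.mem_insert, not_or] at hχ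
        rw [hzero χ hχ.1 hχ.2.1 hχ.2.2]; rfl,
      Finset.sum_insert (by simp [Ne.symm hc1, hS1]), Finset.sum_insert hcS, hm1, hmc,
      Finset.sum_congr rfl (g := fun _ => 1) fun χ hχ => by rw [hmS χ hχ, one_pow],
      Finset.sum_const, smul_eq_mul, mul_one, one_pow]
    omega
  have hbase : classInner π c = 1 ∧ (∀ χ ∈ S, classInner π χ = 1) ∧
      (∀ χ : IrrCharacter H, χ ≠ CfsgLib.Char.irrOne → χ ≠ c → χ ∉ S → classInner π χ = 0) :=
    ⟨by rw [hmi, hmc, Nat.cast_one], fun χ hχ => by rw [hmi, hmS χ hχ, Nat.cast_one],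
      fun χ h1 h2 h3 => by rw [hmi, hzero χ h1 h2 h3, Nat.cast_zero]⟩
  rcases hcase with hS | ⟨hdc, hScard⟩ | ⟨hdc, ht2, hSY, hSv⟩
  · left
    rw [hrk, hS, Finset.card_empty]
  · refine Or.inr ⟨c, S, hc1, hS1, hcS, hbase.1, hbase.2.1, hbase.2.2, hdc, by omega,
      fun χ hχ χ' hχ' => Or.inl ?_, hrk, Or.inl hScard⟩
    exact Finset.card_le_one.mp hScard.le χ' hχ' χ hχ
  · have hScard : S.card = 2 := by rw [hSY, D.card_Y, ht2]
    have hp2e : p = 2 * e + 1 := by rw [hpe, ht2, mul_comm]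
    have hexc : ∀ θ ∈ S, Odd e ∧ (θ : H → ℂ) ≠ fun g => conj ((θ : H → ℂ) g) := fun θ hθ =>
      exceptional_odd L P hPx hrel hp2e θ (hSv θ hθ).1 fun i => by
        rw [ha i θ, (hSv θ hθ).2, Nat.cast_zero, mul_zero]
    obtain ⟨θ, hθ⟩ := Finset.card_pos.mp (show 0 < S.card by omega)
    refine Or.inr ⟨c, S, hc1, hS1, hcS, hbase.1, hbase.2.1, hbase.2.2, hdc, by omega,
      fun χ hχ χ' hχ' => ?_, hrk, Or.inr ⟨hScard, e, hp2e, (hexc θ hθ).1⟩⟩
    by_cases hne : χ' = χ
    · exact Or.inl hne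
    right
    -- the conjugate of `χ` is another constituent
    have hch := CfsgLib.Char.isCharacter_of_isIrr χ.2
    have hirr : IsIrrCharacter H (fun g => conj ((χ : H → ℂ) g)) := by
      refine CfsgLib.Char.irr_of_norm_one (CfsgLib.Char.isCharacter_conj hch) ?_
      have h := congrArg (conj : ℂ → ℂ) (CfsgLib.Char.classInner_irr_self χ.2)
      rw [map_one, CfsgLib.Char.classInner_def] at h
      rw [CfsgLib.Char.classInner_def, ← h]
      simp [map_sum, mul_comm]
    set χc : IrrCharacter H := ⟨_, hirr⟩ with hχc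
    have hmc' : classInner π χc = 1 := by
      have h := congrArg (conj : ℂ → ℂ) (hbase.2.1 χ hχ)
      rw [map_one, CfsgLib.Char.classInner_def] at h
      rw [CfsgLib.Char.classInner_def, ← h]
      simp [map_sum, hπ, hχc]
    have hdχc : deg χc = e := by
      have h := deg_spec χc
      change conj ((χ : H → ℂ) 1) = _ at h
      rw [deg_spec, (hSv χ hχ).1, Complex.conj_natCast] at h
      exact_mod_cast h.symm
    have hmem : χc ∈ S := by
      by_contra hnot
      refine absurd (hmc'.symm.trans (hbase.2.2 χc ?_ ?_ hnot)) one_ne_zero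
      · intro h
        rw [h, deg_irrOne] at hdχc
        omega
      · intro h
        rw [h, hdc] at hdχc
        omega
    have hχχ : χc ≠ χ := fun h => (hexc χ hχ).2 (congrArg Subtype.val h).symm
    have hsub : ({χ, χc} : Finset (IrrCharacter H)) = S :=
      Finset.eq_of_subset_of_card_le (by simp [Finset.insert_subset_iff, hχ, hmem])
        (by rw [Finset.card_pair hχχ.symm, hScard])
    rw [← hsub, Finset.mem_insert, Finset.mem_singleton] at hχ'
    intro g
    rw [hχ'.resolve_left hne, CfsgLib.Char.char_inv hch]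

end CfsgLib.SmallGroups.DegreeTwoP
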