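import Cfsg.Agent.Lib.SmallGroups.DegreeTwoP.Constituents
import Mathlib

/-!
The constituents of a character of degree `2p` that is twice the regular one on `⟨x⟩`, and the
oddness of `e` for a representation of degree `e`.
-/

set_option autoImplicit false

namespace CfsgLib.SmallGroups.DegreeTwoP

open Subgroup CfsgLib.InvolChar Cfsg
open CfsgLib.SmallGroups.BrauerFew (Loc)

variable {H : Type*} [Group H] [Fintype H] {p e t : ℕ} [Fact p.Prime] {ε : ℤ} {x : H}

theorem fixedMult_one (L : Loc H p x) {a : IrrCharacter H → ℕ}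
    (ha : ∀ (_ : Fintype (zpowers x)) (χ : IrrCharacter H),
      ∑ u : zpowers x, (χ : H → ℂ) u = (p : ℂ) * a χ) :
    a CfsgLib.Char.irrOne = 1 := by
  classical
  haveI := Fintype.ofFinite (zpowers x)
  have h := sum_zpowers_const L.card_zpowers_eq ((CfsgLib.Char.irrOne : IrrCharacter H) : H → ℂ) 1
    fun u _ _ => CfsgLib.Char.irrOne_apply u
  rw [ha inferInstance, CfsgLib.Char.irrOne_apply] at h
  have h' : (p : ℂ) * a CfsgLib.Char.irrOne = p * 1 := by linear_combination h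
  exact_mod_cast mul_left_cancel₀ (by exact_mod_cast (Fact.out : p.Prime).ne_zero) h'

theorem constituents (L : Loc H p x) (D : PData H p e t ε x) (hpe : p = e * t + 1) (he : 2 ≤ e)
    (ht : 0 < t) (hp3 : 3 ≤ p) {a : IrrCharacter H → ℕ}
    (ha : ∀ (_ : Fintype (zpowers x)) (χ : IrrCharacter H),
      ∑ u : zpowers x, (χ : H → ℂ) u = (p : ℂ) * a χ)
    {m : IrrCharacter H → ℕ} (hm1 : m CfsgLib.Char.irrOne = 1)
    (hdeg : ∑ χ, m χ * deg χ = 2 * p) (hfix : ∑ χ, m χ * a χ = 2)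
    (hmY : 2 ≤ t → ∀ θ ∈ D.Y, ∀ θ' ∈ D.Y, m θ = m θ') :
    ∃ (c : IrrCharacter H) (S : Finset (IrrCharacter H)),
      c ≠ CfsgLib.Char.irrOne ∧ m c = 1 ∧ CfsgLib.Char.irrOne ∉ S ∧ c ∉ S ∧ (∀ χ ∈ S, m χ = 1) ∧
      (∀ χ, χ ≠ CfsgLib.Char.irrOne → χ ≠ c → χ ∉ S → m χ = 0) ∧
      deg c + ∑ χ ∈ S, deg χ + 1 = 2 * p ∧
      ((S = ∅) ∨ (deg c = p ∧ S.card = 1) ∨
        (deg c = p ∧ t = 2 ∧ S = D.Y ∧ ∀ θ ∈ S, deg θ = e ∧ a θ = 0)) := by
  classical
  set one : IrrCharacter H := CfsgLib.Char.irrOne with hone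
  rw [← Finset.add_sum_erase _ _ (Finset.mem_univ one), hm1] at hdeg hfix
  rw [hone, deg_irrOne, ← hone] at hdeg
  rw [hone, fixedMult_one L ha, ← hone] at hfix
  set Z := (Finset.univ.erase one).filter (fun χ => 0 < m χ) with hZ
  have hZmem : ∀ χ, χ ∈ Z ↔ χ ≠ one ∧ 0 < m χ := fun χ => by simp [hZ]
  have hZsum : ∀ F : IrrCharacter H → ℕ,
      ∑ χ ∈ Finset.univ.erase one, m χ * F χ = ∑ χ ∈ Z, m χ * F χ := fun F => by
    refine (Finset.sum_subset (Finset.filter_subset _ _) fun χ hχ hχ' => ?_).symm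
    have : ¬ 0 < m χ := fun h => hχ' (Finset.mem_filter.mpr ⟨hχ, h⟩)
    rw [Nat.le_zero.mp (not_lt.mp this), zero_mul]
  rw [hZsum] at hdeg hfix
  obtain ⟨c, hcZ, hac⟩ : ∃ c ∈ Z, 0 < m c * a c := by
    by_contra hall
    push Not at hall
    rw [Finset.sum_eq_zero fun χ hχ => Nat.le_zero.mp (hall χ hχ)] at hfix
    omega
  have hcle : m c * a c ≤ 1 := by
    have := Finset.single_le_sum (f := fun χ => m χ * a χ) (fun _ _ => Nat.zero_le _) hcZ
    simp only [mul_one] at hfix
    omega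
  obtain ⟨hmc, hac1⟩ := Nat.eq_one_of_mul_eq_one_right (by omega : m c * a c = 1) |> fun h =>
    And.intro h (Nat.eq_one_of_mul_eq_one_left (by omega : m c * a c = 1))
  have hrest : ∀ χ ∈ Z.erase c, a χ = 0 := by
    intro χ hχ
    have h := Finset.add_sum_erase Z (fun χ => m χ * a χ) hcZ
    rw [hmc, hac1] at h
    have h0 : ∑ χ ∈ Z.erase c, m χ * a χ = 0 := by simp only [mul_one] at hfix; omega
    have := Finset.sum_eq_zero_iff.mp h0 χ hχ
    exact (Nat.mul_eq_zero.mp this).resolve_left ((hZmem χ).mp (Finset.mem_of_mem_erase hχ)).2.ne'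
  have hcY : ¬ (c ∈ D.Y ∧ 2 ≤ t) := by
    rintro ⟨hcY, ht2⟩
    have hall : ∀ θ ∈ D.Y, θ ≠ one → θ ∈ Z := fun θ hθ hne =>
      (hZmem θ).mpr ⟨hne, by rw [hmY ht2 θ hθ c hcY, hmc]; norm_num⟩
    have hone' : one ∉ D.Y := by
      intro h1
      have hd := D.deg_Y one h1
      rw [hone, deg_irrOne, ← D.deg_Y c hcY] at hd
      have := CfsgLib.SmallGroups.BrauerFew.one_lt_deg L.perfect ((hZmem c).mp hcZ).1
      omega
    have hsum : ∑ θ ∈ D.Y, a θ ≤ 1 := by
      rw [← Finset.add_sum_erase _ _ hcY, hac1, Finset.sum_eq_zero fun θ hθ => hrest θ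
        (Finset.mem_erase.mpr ⟨(Finset.mem_erase.mp hθ).1, hall θ (Finset.mem_of_mem_erase hθ)
          fun h => hone' (h ▸ Finset.mem_of_mem_erase hθ)⟩), add_zero]

    have := (family L D hpe he ht2 ha hsum).2.2 c hcY
    omega
  obtain ⟨σ, hσ, hcd⟩ := (kind L D hpe ht ha c).resolve_right hcY
  have hcdeg := (arith hp3 (CfsgLib.SmallGroups.BrauerFew.one_lt_deg L.perfect ((hZmem c).mp hcZ).1)
    hσ hcd).2.1 hac1
  have hsplit := Finset.add_sum_erase Z (fun χ => m χ * deg χ) hcZ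
  rw [hmc, one_mul] at hsplit
  simp only [mul_one] at hdeg
  have hzero : ∀ S : Finset (IrrCharacter H), Z.erase c ⊆ S → ∀ χ, χ ≠ one → χ ≠ c → χ ∉ S →
      m χ = 0 := by
    intro S hS χ h1 h2 h3
    by_contra h
    exact h3 (hS (Finset.mem_erase.mpr ⟨h2, (hZmem χ).mpr ⟨h1, Nat.pos_of_ne_zero h⟩⟩))
  rcases hcdeg with hd | hd
  · by_cases hex : ∃ ψ ∈ Z.erase c, ¬ (ψ ∈ D.Y ∧ 2 ≤ t)
    · obtain ⟨ψ, hψ, hψY⟩ := hex
      obtain ⟨σ', hσ', hψd⟩ := (kind L D hpe ht ha ψ).resolve_right hψY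
      have hψne := ((hZmem ψ).mp (Finset.mem_of_mem_erase hψ)).1
      have hψp := (arith hp3 (CfsgLib.SmallGroups.BrauerFew.one_lt_deg L.perfect hψne) hσ' hψd).2.2
        (hrest ψ hψ)
      have hψm := ((hZmem ψ).mp (Finset.mem_of_mem_erase hψ)).2
      have h2 := Finset.add_sum_erase (Z.erase c) (fun χ => m χ * deg χ) hψ
      have hm : m ψ = 1 := by
        by_contra hne
        have : 2 * deg ψ ≤ m ψ * deg ψ := Nat.mul_le_mul_right _ (by omega)
        omega
      rw [hm, one_mul] at h2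
      refine ⟨c, {ψ}, ((hZmem c).mp hcZ).1, hmc, by simpa using Ne.symm hψne,
        by simpa using (Finset.ne_of_mem_erase hψ).symm, by simpa using hm, ?_, ?_,
        Or.inr (Or.inl ⟨hd, Finset.card_singleton _⟩)⟩
      · refine hzero _ fun χ hχ => ?_
        rw [Finset.mem_singleton]
        by_contra hne
        have h3 := Finset.single_le_sum (f := fun χ => m χ * deg χ) (fun _ _ => Nat.zero_le _)
          (Finset.mem_erase.mpr ⟨hne, hχ⟩ : χ ∈ (Z.erase c).erase ψ)
        have : 0 < m χ * deg χ :=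
          Nat.mul_pos ((hZmem χ).mp (Finset.mem_of_mem_erase hχ)).2 (deg_pos χ)
        omega
      · rw [Finset.sum_singleton]; omega
    · push Not at hex
      obtain ⟨θ, hθ⟩ : (Z.erase c).Nonempty := by
        rw [Finset.nonempty_iff_ne_empty]
        intro h
        rw [h, Finset.sum_empty] at hsplit
        omega
      obtain ⟨hθY, ht2⟩ := hex θ hθ
      have hθm := ((hZmem θ).mp (Finset.mem_of_mem_erase hθ)).2
      have hone' : one ∉ D.Y := by
        intro h1
        have hd' := D.deg_Y one h1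
        rw [hone, deg_irrOne, ← D.deg_Y θ hθY] at hd'
        have := CfsgLib.SmallGroups.BrauerFew.one_lt_deg L.perfect
          ((hZmem θ).mp (Finset.mem_of_mem_erase hθ)).1
        omega
      have hY : Z.erase c = D.Y := by
        refine Finset.Subset.antisymm (fun χ hχ => (hex χ hχ).1) fun χ hχ => ?_
        refine Finset.mem_erase.mpr ⟨fun h => hcY ⟨h ▸ hχ, ht2⟩, (hZmem χ).mpr ⟨fun h => hone' (h ▸ hχ), ?_⟩⟩
        rw [hmY ht2 χ hχ θ hθY]
        exact hθm
      obtain ⟨hf, -, ha0⟩ := family L D hpe he ht2 ha (by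
        rw [Finset.sum_eq_zero fun χ hχ => hrest χ (hY ▸ hχ)]; norm_num)
      have ht2' : t = 2 := le_antisymm (family_le_two L D hpe he ht2 ha hf ha0) ht2
      have hm : m θ = 1 := by
        rw [hY, Finset.sum_congr rfl (g := fun _ => m θ * e) fun χ hχ => by
          rw [hmY ht2 χ hχ θ hθY, D.deg_Y χ hχ, hf], Finset.sum_const, D.card_Y, smul_eq_mul, ht2'] at hsplit
        rw [ht2'] at hpe
        by_contra hne
        have h2m : 2 ≤ m θ := by omega
        nlinarith
      refine ⟨c, D.Y, ((hZmem c).mp hcZ).1, hmc, hone', fun h => hcY ⟨h, ht2⟩,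
        fun χ hχ => by rw [hmY ht2 χ hχ θ hθY, hm], hzero _ hY.le, ?_,
        Or.inr (Or.inr ⟨hd, ht2', rfl, fun χ hχ => ⟨by rw [D.deg_Y χ hχ, hf], ha0 χ hχ⟩⟩)⟩
      rw [← hY, ← Finset.sum_congr rfl fun χ (hχ : χ ∈ Z.erase c) => show m χ * deg χ = deg χ by
        rw [hmY ht2 χ (hY ▸ hχ) θ hθY, hm, one_mul]]
      omega
  · have hnone : Z.erase c = ∅ := by
      by_contra hne
      obtain ⟨χ, hχ⟩ := Finset.nonempty_of_ne_empty hne
      have h3 := Finset.single_le_sum (f := fun χ => m χ * deg χ) (fun _ _ => Nat.zero_le _) hχ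
      have : 0 < m χ * deg χ :=
        Nat.mul_pos ((hZmem χ).mp (Finset.mem_of_mem_erase hχ)).2 (deg_pos χ)
      omega
    refine ⟨c, ∅, ((hZmem c).mp hcZ).1, hmc, by simp, by simp, by simp, hzero _ hnone.le, ?_, Or.inl rfl⟩
    rw [Finset.sum_empty]; omega

/-- A representation of degree `e` of a perfect group, without fixed vectors for `x`, forces `e`
to be odd when `n` cycles the powers of `x` with period `e`. -/
theorem odd_of_rep (hperf : commutator H = ⊤) (hx : orderOf x = p)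
    (ρ : Representation ℂ H (Fin e → ℂ)) (hsum : ∀ (_ : Fintype (zpowers x)),
      ∑ u : zpowers x, ρ.character (u : H) = 0) (he : 0 < e)
    {n : H} (hn : n ^ e = 1) (hnx : n * x * n⁻¹ ∈ zpowers x)
    (hfree : ∀ i, 0 < i → i < e → n ^ i * x * (n ^ i)⁻¹ ≠ x) : Odd e := by
  classical
  haveI := Fintype.ofFinite (zpowers x)
  haveI : Nonempty (Fin e) := ⟨⟨0, he⟩⟩
  obtain ⟨lam, hlam⟩ := Module.End.exists_eigenvalue (ρ x : Module.End ℂ (Fin e → ℂ))
  obtain ⟨w, hw⟩ := hlam.exists_hasEigenvector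
  have hw' : ρ x w = lam • w := hw.apply_eq_smul
  have hpow : ∀ j : ℕ, ρ (x ^ j) w = lam ^ j • w := fun j => by
    induction j with
    | zero => simp
    | succ j ih => rw [pow_succ', map_mul, Module.End.mul_apply, ih, map_smul, hw', smul_smul, pow_succ]
  have hlp : lam ^ p = 1 := by
    have h := hpow p
    rw [← hx, pow_orderOf_eq_one, map_one, Module.End.one_apply, hx] at h
    exact (smul_left_injective ℂ hw.2 (by simpa using h)).symm
  have hl1 : lam ≠ 1 := by
    intro h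
    set E : Module.End ℂ (Fin e → ℂ) := ∑ u : zpowers x, ρ (u : H) with hE
    have hEE : ∀ v : zpowers x, ρ (v : H) * E = E := fun v => by
      rw [hE, Finset.mul_sum]
      refine Fintype.sum_equiv (Equiv.mulLeft v) _ _ fun u => ?_
      rw [← map_mul]; rfl
    have hP : LinearMap.IsProj (LinearMap.range ((p : ℂ)⁻¹ • E)) ((p : ℂ)⁻¹ • E) := by
      refine ⟨fun v => LinearMap.mem_range_self _ v, fun v hv => ?_⟩
      obtain ⟨y, rfl⟩ := hv
      have hsq : E * E = (p : ℂ) • E := by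
        conv_lhs => arg 1; rw [hE]
        rw [Finset.sum_mul, Finset.sum_congr rfl fun v _ => hEE v, Finset.sum_const, Finset.card_univ,
          ← Nat.card_eq_fintype_card, Nat.card_zpowers, hx, ← Nat.cast_smul_eq_nsmul ℂ]
      have hp0 : (p : ℂ) ≠ 0 := by exact_mod_cast (Fact.out : p.Prime).ne_zero
      have : ((p : ℂ)⁻¹ • E) * ((p : ℂ)⁻¹ • E) = (p : ℂ)⁻¹ • E := by
        rw [smul_mul_assoc, mul_smul_comm, hsq, smul_smul, smul_smul]
        congr 1
        field_simp
      exact LinearMap.congr_fun this y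
    have htr := LinearMap.IsProj.trace hP
    rw [map_smul, hE, map_sum, show ∑ u : zpowers x, LinearMap.trace ℂ _ (ρ (u : H)) = 0 from hsum inferInstance,
      smul_zero] at htr
    have h0 : Module.finrank ℂ (LinearMap.range ((p : ℂ)⁻¹ • E)) = 0 := by exact_mod_cast htr.symm
    have hzero := LinearMap.range_eq_bot.mp (Submodule.finrank_eq_zero.mp h0)
    have hEw : E w = (p : ℂ) • w := by
      rw [hE, LinearMap.sum_apply, Finset.sum_congr rfl (g := fun _ => w) fun u _ => ?_, Finset.sum_const,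
        Finset.card_univ, ← Nat.card_eq_fintype_card, Nat.card_zpowers, hx, ← Nat.cast_smul_eq_nsmul ℂ]
      obtain ⟨j, hj⟩ : ∃ j : ℕ, x ^ j = (u : H) := by
        obtain ⟨j, hj⟩ := (mem_powers_iff_mem_zpowers.mpr u.2)
        exact ⟨j, hj⟩
      rw [← hj, hpow, h, one_pow, one_smul]
    have := LinearMap.congr_fun hzero w
    rw [LinearMap.smul_apply, hEw, smul_smul,
      inv_mul_cancel₀ (by exact_mod_cast (Fact.out : p.Prime).ne_zero), one_smul] at this
    exact hw.2 this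
  -- the translates of `w`
  have hconj : ∀ i : ℕ, ∃ s : ℕ, (n ^ i)⁻¹ * x * n ^ i = x ^ s := by
    intro i
    have hmem : ∀ k : ℕ, n ^ k * x * (n ^ k)⁻¹ ∈ zpowers x := by
      intro k
      induction k with
      | zero => simp
      | succ k ih =>
        obtain ⟨j, hj⟩ := mem_zpowers_iff.mp ih
        rw [pow_succ', mul_inv_rev, show n * n ^ k * x * ((n ^ k)⁻¹ * n⁻¹) =
          n * (n ^ k * x * (n ^ k)⁻¹) * n⁻¹ by group, ← hj, ← conj_zpow]
        exact zpow_mem hnx j
    have hinv : (n ^ i)⁻¹ = n ^ ((e - 1) * i) := by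
      refine inv_eq_of_mul_eq_one_left ?_
      rw [← pow_add, show (e - 1) * i + i = e * i by
        conv_rhs => rw [show e = e - 1 + 1 by omega]
        ring, pow_mul, hn, one_pow]
    have h := hmem ((e - 1) * i)
    rw [← hinv, inv_inv] at h
    obtain ⟨j, hj⟩ := mem_powers_iff_mem_zpowers.mpr h
    exact ⟨j, hj.symm⟩
  choose s hs using hconj
  set v : Fin e → (Fin e → ℂ) := fun i => ρ (n ^ (i : ℕ)) w with hv
  have hv0 : ∀ i, v i ≠ 0 := fun i h => hw.2 (by
    have := congrArg (ρ (n ^ (i : ℕ))⁻¹) h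
    rwa [map_zero, hv, ← Module.End.mul_apply, ← map_mul, inv_mul_cancel, map_one,
      Module.End.one_apply] at this)
  have heig : ∀ i : Fin e, Module.End.HasEigenvector (ρ x : Module.End ℂ (Fin e → ℂ)) (lam ^ s i) (v i) := by
    intro i
    refine ⟨Module.End.mem_eigenspace_iff.mpr ?_, hv0 i⟩
    rw [hv, ← Module.End.mul_apply, ← map_mul, show x * n ^ (i : ℕ) = n ^ (i : ℕ) * x ^ s i by
      rw [← hs]; group, map_mul, Module.End.mul_apply, hpow, map_smul]
  have hlord : orderOf lam = p := orderOf_eq_prime hlp hl1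
  have hinj : Function.Injective fun i : Fin e => lam ^ s i := by
    intro i j h
    change lam ^ s i = lam ^ s j at h
    have hl0 : lam ≠ 0 := fun h0 => by
      rw [h0, zero_pow (Fact.out : p.Prime).ne_zero] at hlp
      exact zero_ne_one hlp
    have hmod := pow_eq_pow_iff_modEq.mp (show Units.mk0 lam hl0 ^ s i = Units.mk0 lam hl0 ^ s j from
      Units.ext (by simpa using h))
    rw [← orderOf_units, Units.val_mk0, hlord, ← hx, ← pow_eq_pow_iff_modEq, ← hs, ← hs] at hmod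
    by_contra hne
    have key : ∀ i j : ℕ, i < j → j < e → (n ^ i)⁻¹ * x * n ^ i ≠ (n ^ j)⁻¹ * x * n ^ j := by
      intro i j hij hj h
      obtain ⟨d, rfl⟩ : ∃ d, j = d + i := ⟨j - i, by omega⟩
      refine hfree d (by omega) (by omega) ?_
      rw [pow_add] at h
      calc n ^ d * x * (n ^ d)⁻¹
          = n ^ d * (n ^ i * ((n ^ i)⁻¹ * x * n ^ i) * (n ^ i)⁻¹) * (n ^ d)⁻¹ := by group
        _ = n ^ d * (n ^ i * ((n ^ d * n ^ i)⁻¹ * x * (n ^ d * n ^ i)) * (n ^ i)⁻¹) * (n ^ d)⁻¹ := by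
            rw [h]
        _ = x := by group
    rcases lt_or_gt_of_ne (Fin.val_ne_of_ne hne) with h' | h'
    · exact key i j h' j.2 hmod
    · exact key j i h' i.2 hmod.symm
  have hli := Module.End.eigenvectors_linearIndependent' (ρ x : Module.End ℂ (Fin e → ℂ))
    (fun i : Fin e => lam ^ s i) hinj v heig
  set B := basisOfLinearIndependentOfCardEqFinrank hli (by simp) with hB
  have hBv : ⇑B = v := coe_basisOfLinearIndependentOfCardEqFinrank _ _
  obtain ⟨k, rfl⟩ : ∃ k, e = k + 1 := ⟨e - 1, by omega⟩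
  have hcomp : ρ n ∘ B = B ∘ finRotate (k + 1) := by
    funext i
    rw [Function.comp_apply, Function.comp_apply, hBv, hv]
    show ρ n (ρ (n ^ (i : ℕ)) w) = ρ (n ^ ((finRotate (k + 1) i : Fin (k + 1)) : ℕ)) w
    rw [← Module.End.mul_apply, ← map_mul, ← pow_succ', coe_finRotate]
    split_ifs with h
    · rw [h, Fin.val_last, hn, pow_zero]
    · rfl
  have hdet1 : LinearMap.det (ρ n) = 1 := by
    let φ : H →* ℂˣ :=
      (Units.map (LinearMap.det : Module.End ℂ (Fin (k + 1) → ℂ) →* ℂ)).comp ρ.toHomUnits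
    have := CfsgLib.SmallGroups.BrauerFew.linear_trivial_of_perfect hperf φ
    have h := congrArg Units.val (DFunLike.congr_fun this n)
    simpa [φ] using h
  have hdet := B.det_comp (ρ n) B
  rw [hcomp, AlternatingMap.map_perm, Module.Basis.det_self, hdet1, one_mul, sign_finRotate,
    Units.smul_def, zsmul_eq_mul, mul_one, Nat.add_sub_cancel] at hdet
  rcases Nat.even_or_odd k with h | h
  · exact h.add_one
  · rw [h.neg_one_pow] at hdet
    norm_num at hdet

end CfsgLib.SmallGroups.DegreeTwoP
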