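import Cfsg.Agent.Lib.SmallGroups.DegreeTwoP.Classify
import Mathlib

/-!
The exceptional family of two characters of degree `e = (p - 1) / 2`: `e` is odd and the two
characters are complex conjugate.
-/

set_option autoImplicit false

namespace CfsgLib.SmallGroups.DegreeTwoP

open Subgroup CfsgLib.InvolChar Cfsg CfsgLib.Blocks.PrimeSylow
open CfsgLib.SmallGroups.BrauerFew (Loc)
open scoped ComplexConjugate

variable {H : Type*} [Group H] [Fintype H] {p e t : ℕ} [Fact p.Prime] {ε : ℤ} {x : H}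

/-- An element of order dividing `e` which permutes the powers of `x` with period `e`. -/
theorem exists_cycler (L : Loc H p x) (P : Sylow p H) (hPx : (P : Subgroup H) = zpowers x)
    (hrel : (centralizer ((P : Subgroup H) : Set H)).relIndex
      (normalizer ((P : Subgroup H) : Set H)) = e) (he : 0 < e) (hep : e < p) :
    ∃ n : H, n ^ e = 1 ∧ n * x * n⁻¹ ∈ zpowers x ∧
      ∀ i, 0 < i → i < e → n ^ i * x * (n ^ i)⁻¹ ≠ x := by
  classical
  have hp : p.Prime := Fact.out
  have hP : Nat.card (P : Subgroup H) = p := by rw [hPx, L.card_zpowers_eq]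
  set N := normalizer ((P : Subgroup H) : Set H) with hN
  set φ := rhoU P hP with hφ
  have hker : ∀ m : N, φ m = 1 ↔ (m : H) ∈ zpowers x := fun m => by
    rw [Units.ext_iff, hφ, coe_rhoU, Units.val_one, rho_eq_one_iff, L.centralizer_sylow hPx]
  obtain ⟨⟨u, ⟨n₀, rfl⟩⟩, hu⟩ := IsCyclic.exists_ofOrder_eq_natCard (α := φ.range)
  rw [card_range_rhoU, hrel, ← Subgroup.orderOf_coe] at hu
  have hpow : ((n₀ ^ e : N) : H) ∈ zpowers x := by
    rw [← hker, map_pow, ← hu, pow_orderOf_eq_one]
  refine ⟨((n₀ ^ p : N) : H), ?_, ?_, ?_⟩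
  · rw [← SubmonoidClass.coe_pow, ← pow_mul, mul_comm, pow_mul, SubmonoidClass.coe_pow]
    obtain ⟨j, hj⟩ := mem_zpowers_iff.mp hpow
    rw [← hj, ← zpow_natCast, ← zpow_mul, mul_comm, zpow_mul, zpow_natCast, ← L.order,
      pow_orderOf_eq_one, one_zpow]
  · rw [← hPx]
    exact (Subgroup.mem_normalizer_iff.mp (n₀ ^ p).2 x).mp (hPx ▸ mem_zpowers x)
  · intro i hi0 hie h
    have hmem : (((n₀ ^ p) ^ i : N) : H) ∈ zpowers x := by
      rw [← L.cent, mem_centralizer_singleton_iff, SubmonoidClass.coe_pow]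
      exact mul_inv_eq_iff_eq_mul.mp h
    rw [← hker, ← pow_mul, map_pow, ← orderOf_dvd_iff_pow_eq_one, hu] at hmem
    have hcop : e.Coprime p := (hp.coprime_iff_not_dvd.mpr fun hd => by
      have := Nat.le_of_dvd he hd; omega).symm
    have := Nat.le_of_dvd hi0 (hcop.dvd_of_dvd_mul_left hmem)
    omega

/-- The degree `e` of an exceptional character without fixed points on `⟨x⟩` is odd, and the
character is not real there. -/
theorem exceptional_odd (L : Loc H p x) (P : Sylow p H) (hPx : (P : Subgroup H) = zpowers x)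
    (hrel : (centralizer ((P : Subgroup H) : Set H)).relIndex
      (normalizer ((P : Subgroup H) : Set H)) = e) (hpe : p = 2 * e + 1)
    (θ : IrrCharacter H) (hθd : deg θ = e)
    (hθs : ∀ (_ : Fintype (zpowers x)), ∑ u : zpowers x, (θ : H → ℂ) u = 0) :
    Odd e ∧ (θ : H → ℂ) ≠ fun g => conj ((θ : H → ℂ) g) := by
  classical
  have hp : p.Prime := Fact.out
  have he : 0 < e := hθd ▸ deg_pos θ
  obtain ⟨n, hn, hnx, hfree⟩ := exists_cycler L P hPx hrel he (by omega)
  have hd := deg_spec θ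
  obtain ⟨d, ρ, hirr, hρ⟩ := θ.2
  obtain rfl : d = e := by
    rw [← congrFun hρ 1, Representation.char_one, Module.finrank_fin_fun, hθd] at hd
    exact_mod_cast hd
  have hodd := odd_of_rep L.perfect L.order ρ (fun i => by rw [hρ]; exact hθs i) he hn hnx hfree
  refine ⟨hodd, fun hreal => ?_⟩
  haveI := Fintype.ofFinite (zpowers x)
  -- the powers of `x` pair up
  have hreal' : ∀ g, (θ : H → ℂ) g⁻¹ = (θ : H → ℂ) g := fun g => by
    rw [CfsgLib.Char.char_inv (CfsgLib.Char.isCharacter_of_isIrr θ.2)]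
    exact (congrFun hreal g).symm
  have hsum : ∑ j ∈ Finset.range p, (θ : H → ℂ) (x ^ j) = 0 := by
    rw [← hθs inferInstance, ← Fin.sum_univ_eq_sum_range (fun j => (θ : H → ℂ) (x ^ j)) p]
    have hfin : IsOfFinOrder x := isOfFinOrder_of_finite x
    exact Fintype.sum_equiv ((finCongr L.order.symm).trans (finEquivZPowers hfin)) _ _ fun j => by
      simp [finEquivZPowers_apply]
  set A := ∑ j ∈ Finset.range d, (θ : H → ℂ) (x ^ (j + 1)) with hA
  have hpair : ∑ j ∈ Finset.range d, (θ : H → ℂ) (x ^ (j + (d + 1))) = A := by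
    rw [hA, ← Finset.sum_range_reflect]
    refine Finset.sum_congr rfl fun j hj => ?_
    rw [Finset.mem_range] at hj
    rw [show x ^ (j + 1) = (x ^ (d - 1 - j + (d + 1)))⁻¹ from eq_inv_of_mul_eq_one_left (by
      rw [← pow_add, show j + 1 + (d - 1 - j + (d + 1)) = p by omega, ← L.order, pow_orderOf_eq_one]),
      hreal']
  have hsplit : (d : ℂ) + 2 * A = 0 := by
    rw [← hsum, hpe, show 2 * d + 1 = (d + 1) + d by ring, Finset.sum_range_add, Finset.sum_range_succ',
      pow_zero, deg_spec θ, hθd, ← hA]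
    simp only [add_comm (d + 1)]
    rw [hpair]
    ring
  have hint : IsIntegral ℤ A := IsIntegral.sum _ fun j _ =>
    CfsgLib.Char.char_isIntegral (CfsgLib.Char.isCharacter_of_isIrr θ.2) _
  have hq : A = ((-(d : ℚ) / 2 : ℚ) : ℂ) := by push_cast; linear_combination hsplit / 2
  obtain ⟨z, hz⟩ := CfsgLib.Char.exists_int_of_isIntegral_rat (hq ▸ hint)
  have hz' : (d : ℤ) = -2 * z := by
    have : (d : ℚ) = -2 * z := by linarith
    exact_mod_cast this
  obtain ⟨w, hw⟩ := hodd
  omega

end CfsgLib.SmallGroups.DegreeTwoP
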