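import Cfsg.Agent.S0719
import Cfsg.Agent.Lib.InvolChar.Basic
import Mathlib

/-!
Invariant graphs of degree `2p` whose eigenvalues are rational: Wielandt's parameters.
-/

set_option autoImplicit false

namespace CfsgLib.SmallGroups.DegreeTwoP

open Module CfsgLib.InvolChar

theorem arithmetic {k p : ℕ} {zs zt : ℤ} (hk2 : 2 ≤ k) (hkp : k < p)
    (e1 : (k : ℤ) + ((p : ℤ) - 1) * zs + p * zt = 0)
    (e2 : (k : ℤ) ^ 2 + ((p : ℤ) - 1) * zs ^ 2 + p * zt ^ 2 = 2 * p * k) :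
    ∃ a : ℕ, 0 < a ∧ p = 2 * a ^ 2 + 2 * a + 1 ∧ k = a * (2 * a + 1) := by
  obtain ⟨j, hj⟩ : ∃ j : ℤ, zs = k + p * j := ⟨zt + zs, by linarith⟩
  have hk0' : (2 : ℤ) ≤ k := by exact_mod_cast hk2
  have hkm' : (k : ℤ) < p := by exact_mod_cast hkp
  have hsb : -(p : ℤ) < zs ∧ zs < p := by
    have hsq : ((p : ℤ) - 1) * zs ^ 2 < (p : ℤ) ^ 2 := by nlinarith [sq_nonneg zt, sq_nonneg ((k : ℤ) - p)]
    constructor <;> by_contra h <;> push Not at h <;>
      nlinarith [mul_nonneg (show (0 : ℤ) ≤ (p : ℤ) - 2 by omega) (sq_nonneg zs)]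
  have hj' : j = 0 ∨ j = -1 := by
    rcases lt_trichotomy j 0 with hjn | hj0 | hjp
    · right
      by_contra hne
      have : j ≤ -2 := by omega
      nlinarith
    · exact Or.inl hj0
    · exfalso; nlinarith
  have hp0 : (0 : ℤ) < p := by omega
  rcases hj' with hj0 | hj1
  · exfalso
    rw [hj0, mul_zero, add_zero] at hj
    subst hj
    have hzt' : zt = -(k : ℤ) := by
      have : (p : ℤ) * (zt + k) = 0 := by linarith
      rcases mul_eq_zero.mp this with h | h <;> omega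
    subst hzt'
    nlinarith [mul_pos (mul_pos hp0 (show (0 : ℤ) < k by omega)) (show (0 : ℤ) < k - 1 by omega)]
  · rw [hj1] at hj
    have hzt' : zt = (p : ℤ) - 1 - k := by
      have : (p : ℤ) * (zt - ((p : ℤ) - 1 - k)) = 0 := by rw [hj] at e1; linarith
      rcases mul_eq_zero.mp this with h | h <;> omega
    obtain ⟨a, ha⟩ : ∃ a : ℕ, p = k + 1 + a := ⟨p - 1 - k, by omega⟩
    have hzs' : zs = -((a : ℤ) + 1) := by rw [hj, ha]; push_cast; ring
    have hzt'' : zt = a := by rw [hzt', ha]; push_cast; ring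
    have hpval : (p : ℤ) = 2 * (a : ℤ) ^ 2 + 2 * a + 1 := by
      rw [hzs', hzt''] at e2
      have hk' : (k : ℤ) = p - 1 - a := by rw [ha]; push_cast; ring
      rw [hk'] at e2
      have : (p : ℤ) * ((p : ℤ) - (2 * (a : ℤ) ^ 2 + 2 * a + 1)) = 0 := by linear_combination -e2
      rcases mul_eq_zero.mp this with h | h <;> omega
    have hpN : p = 2 * a ^ 2 + 2 * a + 1 := by exact_mod_cast hpval
    refine ⟨a, Nat.pos_of_ne_zero fun h => by subst h; norm_num at hpN; omega, hpN, by nlinarith⟩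

variable {G : Type*} [Group G] [Fintype G] {Ω : Type*} [Fintype Ω] [DecidableEq Ω] [MulAction G Ω]

set_option maxHeartbeats 800000 in
theorem params [MulAction.IsPretransitive G Ω] [Nonempty Ω] {p : ℕ} (hp3 : 3 ≤ p)
    (hΩ : Fintype.card Ω = 2 * p) (M : Ω → Ω → ℂ) (hinv : ∀ (g : G) x y, M (g • x) (g • y) = M x y)
    (hsymm : ∀ x y, M x y = M y x) (h01 : ∀ x y, M x y = 0 ∨ M x y = 1) (hdiag : ∀ x, M x x = 0)
    {k : ℕ} (hrow : ∀ x, ∑ y, M x y = (k : ℂ)) (hk2 : 2 ≤ k) (hkp : k < p)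
    (c : Cfsg.IrrCharacter G) (S : Finset (Cfsg.IrrCharacter G))
    (hc1 : c ≠ CfsgLib.Char.irrOne) (hS1 : CfsgLib.Char.irrOne ∉ S) (hcS : c ∉ S)
    (hmc : Cfsg.classInner (fun g : G => (Nat.card (MulAction.fixedBy Ω g) : ℂ)) c = 1)
    (hmS : ∀ χ ∈ S, Cfsg.classInner (fun g : G => (Nat.card (MulAction.fixedBy Ω g) : ℂ)) χ = 1)
    (hzero : ∀ χ : Cfsg.IrrCharacter G, χ ≠ CfsgLib.Char.irrOne → χ ≠ c → χ ∉ S →
      Cfsg.classInner (fun g : G => (Nat.card (MulAction.fixedBy Ω g) : ℂ)) χ = 0)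
    (hdc : deg c = p) (hdS : ∑ χ ∈ S, deg χ + 1 = p)
    (hconj : ∀ χ ∈ S, ∀ χ' ∈ S, χ' = χ ∨ ∀ g : G, (χ' : G → ℂ) g = (χ : G → ℂ) g⁻¹) :
    ∃ a : ℕ, 0 < a ∧ p = 2 * a ^ 2 + 2 * a + 1 ∧ k = a * (2 * a + 1) := by
  classical
  set T := PermOrbital.opOf M with hTdef
  have hTe : ∀ x y, T (Pi.single y 1) x = M x y := fun x y => PermOrbital.opOf_single M x y
  have hTm := PermOrbital.opOf_mem (G := G) hinv
  have hT2 : T ∘ₗ T ∈ ((Cfsg.permRep ℂ G Ω).linHom (Cfsg.permRep ℂ G Ω)).invariants :=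
    PermDecomp.comp_mem _ _ hTm hTm
  have h2e : ∀ x y, (T ∘ₗ T) (Pi.single y 1) x = ∑ z, M x z * M z y := fun x y => by
    rw [LinearMap.comp_apply, PermOrbital.apply_eq_sum]
    simp only [hTe]
  have hint : ∀ x y, ∃ z : ℤ, T (Pi.single y 1) x = z := fun x y => by
    rcases h01 x y with h | h <;> rw [hTe, h]
    · exact ⟨0, by simp⟩
    · exact ⟨1, by simp⟩
  have h2int : ∀ x y, ∃ z : ℤ, (T ∘ₗ T) (Pi.single y 1) x = z := by
    intro x y
    rw [h2e]
    choose w hw using fun z => hint x z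
    choose w' hw' using fun z => hint z y
    exact ⟨∑ z, w z * w' z, by
      push_cast; exact Finset.sum_congr rfl fun z _ => by rw [← hw z, ← hw' z, hTe, hTe]⟩
  have hrow' : ∀ x, ∑ y, T (Pi.single y 1) x = (k : ℂ) := fun x => by simp only [hTe]; exact hrow x
  have h2row : ∀ x, ∑ y, (T ∘ₗ T) (Pi.single y 1) x = (k : ℂ) ^ 2 := by
    intro x
    simp only [h2e]
    rw [Finset.sum_comm]
    simp only [← Finset.mul_sum, hrow, ← Finset.sum_mul, pow_two]
  have htr0 : LinearMap.trace ℂ (Ω → ℂ) T = 0 := by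
    rw [PermOrbital.trace_eq_sum]
    exact Finset.sum_eq_zero fun x _ => by rw [hTe, hdiag]
  have h2tr : LinearMap.trace ℂ (Ω → ℂ) (T ∘ₗ T) = (2 * p : ℂ) * k := by
    rw [PermOrbital.trace_eq_sum]
    have hr : ∀ x, (T ∘ₗ T) (Pi.single x 1) x = (k : ℂ) := fun x => by
      rw [h2e, ← hrow x]
      exact Finset.sum_congr rfl fun z _ => by
        rw [← hsymm x z]; rcases h01 x z with e | e <;> rw [e] <;> norm_num
    rw [Finset.sum_congr rfl fun x _ => hr x, Finset.sum_const, Finset.card_univ, hΩ, nsmul_eq_mul]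
    push_cast; ring
  obtain ⟨A, hAint, hA1, hA0, hAc, hAtr⟩ := PermOrbital.trace_formula (G := G) hTm hint hrow'
  obtain ⟨B, -, hB1, hB0, hBc, hBtr⟩ := PermOrbital.trace_formula (G := G) hT2 h2int h2row
  have heig : ∀ χ : Cfsg.IrrCharacter G,
      Cfsg.classInner (fun g : G => (Nat.card (MulAction.fixedBy Ω g) : ℂ)) χ = 1 →
      B χ = A χ ^ 2 ∧ (Nat.card G : ℂ) * A χ = ∑ g : G, (χ : G → ℂ) g⁻¹ *
        LinearMap.trace ℂ (Ω → ℂ) (T ∘ₗ Cfsg.permRep ℂ G Ω g) := by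
    intro χ hχ
    obtain ⟨n, σ, hσ, hσc⟩ := χ.2
    have hfr : finrank ℂ (σ.linHom (Cfsg.permRep ℂ G Ω)).invariants = 1 := by
      rw [← hσc, PermOrbital.classInner_eq_finrank] at hχ
      exact_mod_cast hχ
    haveI : Nontrivial (σ.linHom (Cfsg.permRep ℂ G Ω)).invariants :=
      Module.nontrivial_of_finrank_pos (R := ℂ) (by omega)
    obtain ⟨⟨f, hf⟩, hne⟩ := exists_ne (0 : (σ.linHom (Cfsg.permRep ℂ G Ω)).invariants)
    have hf0 : f ≠ 0 := fun e => hne (Subtype.ext e)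
    obtain ⟨e, he⟩ := PermDecomp.exists_eigen σ _ hfr.le hTm hf hf0
    have hall : ∀ f' ∈ (σ.linHom (Cfsg.permRep ℂ G Ω)).invariants, T ∘ₗ f' = e • f' := by
      intro f' hf'
      obtain ⟨r, rfl⟩ := PermDecomp.exists_smul_eq σ _ hfr.le hf hf' hf0
      rw [LinearMap.comp_smul, he, smul_comm]
    have h2all : ∀ f' ∈ (σ.linHom (Cfsg.permRep ℂ G Ω)).invariants,
        (T ∘ₗ T) ∘ₗ f' = (e ^ 2) • f' := by
      intro f' hf'
      rw [LinearMap.comp_assoc, hall f' hf', LinearMap.comp_smul, hall f' hf', smul_smul, pow_two]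
    have hA : A χ = e := by rw [hAc χ n σ hσ hσc e hall, hfr]; simp
    refine ⟨by rw [hA, hBc χ n σ hσ hσc (e ^ 2) h2all, hfr]; simp, ?_⟩
    obtain ⟨a', -, h2, -, h4⟩ := PermDecomp.isIntegral_trace σ (Cfsg.permRep ℂ G Ω) hTm
      (fun z hz => PermOrbital.isIntegral_of_isRoot hint hz)
    rw [h4 e hall, hfr, hσc, Nat.cast_one, mul_one] at h2
    rw [hA, h2]
  -- equal eigenvalues on `S`
  have htrinv : ∀ g : G, LinearMap.trace ℂ (Ω → ℂ) (T ∘ₗ Cfsg.permRep ℂ G Ω g⁻¹) =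
      LinearMap.trace ℂ (Ω → ℂ) (T ∘ₗ Cfsg.permRep ℂ G Ω g) := by
    intro g
    simp only [PermOrbital.trace_eq_sum, LinearMap.comp_apply, PermOrbital.permRep_single, hTe]
    refine (Fintype.sum_equiv (MulAction.toPerm g) _ _ fun y => ?_).symm
    rw [MulAction.toPerm_apply, inv_smul_smul, hsymm]
  have hAS : ∀ χ ∈ S, ∀ χ' ∈ S, A χ' = A χ := by
    intro χ hχ χ' hχ'
    rcases hconj χ hχ χ' hχ' with rfl | h
    · rfl
    · refine mul_left_cancel₀ (CfsgLib.Char.card_ne_zero' (G := G)) ?_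
      rw [(heig χ (hmS χ hχ)).2, (heig χ' (hmS χ' hχ')).2]
      refine Fintype.sum_equiv (Equiv.inv G) _ _ fun g => ?_
      rw [Equiv.inv_apply, h, inv_inv, htrinv]
  obtain ⟨ψ, hψ⟩ : S.Nonempty := by
    rw [Finset.nonempty_iff_ne_empty]
    intro h
    rw [h, Finset.sum_empty] at hdS
    omega
  set s := A ψ with hs
  set r := A c with hr
  set one : Cfsg.IrrCharacter G := CfsgLib.Char.irrOne with hone
  have hsplit : ∀ F : Cfsg.IrrCharacter G → ℂ,
      (∀ χ : Cfsg.IrrCharacter G, Cfsg.classInner (fun g : G => (Nat.card (MulAction.fixedBy Ω g) : ℂ)) χ = 0 → F χ = 0) →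
      ∀ v : ℂ, (∀ χ ∈ S, F χ = v) →
      ∑ χ : Cfsg.IrrCharacter G, (χ : G → ℂ) 1 * F χ =
        F one + (p : ℂ) * F c + ((p : ℂ) - 1) * v := by
    intro F hF v hv
    rw [← Finset.sum_subset (Finset.subset_univ (insert one (insert c S))) fun χ _ hχ => by
        simp only [Finset.mem_insert, not_or] at hχ
        rw [hF χ (hzero χ hχ.1 hχ.2.1 hχ.2.2), mul_zero],
      Finset.sum_insert (by simp [Ne.symm hc1, hS1]), Finset.sum_insert hcS,
      Finset.sum_congr rfl (g := fun χ => (deg χ : ℂ) * v) fun χ hχ => by rw [hv χ hχ, deg_spec],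
      ← Finset.sum_mul, deg_spec c, hdc, hone, CfsgLib.Char.irrOne_apply]
    have h' : ((∑ χ ∈ S, deg χ : ℕ) : ℂ) + 1 = (p : ℂ) := by exact_mod_cast hdS
    push_cast at h'
    rw [eq_sub_of_add_eq h']
    ring
  rw [htr0, hsplit A hA0 s (fun χ hχ => hAS ψ hψ χ hχ), hA1] at hAtr
  rw [h2tr, hsplit B hB0 (s ^ 2) (fun χ hχ => by rw [(heig χ (hmS χ hχ)).1, hAS ψ hψ χ hχ]), hB1,
    (heig c hmc).1] at hBtr
  obtain ⟨zs, hzs⟩ := Cfsg.Agent.S0719.exists_int (m := p) (k := k) (by omega) hkp (hAint ψ) (by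
    linear_combination (-(p : ℂ)) * hBtr + ((p : ℂ) * r - (k : ℂ) - ((p : ℂ) - 1) * s) * hAtr)
  have hp0 : (p : ℂ) ≠ 0 := by exact_mod_cast (show p ≠ 0 by omega)
  obtain ⟨zt, hzt⟩ : ∃ z : ℤ, r = z := by
    set q : ℚ := -((k : ℚ) + ((p : ℚ) - 1) * zs) / p with hq
    have hqc : algebraMap ℚ ℂ q = r := by
      rw [hq, eq_ratCast]; push_cast
      rw [div_eq_iff hp0, ← hzs]
      linear_combination hAtr
    obtain ⟨z, hz⟩ := IsIntegrallyClosed.isIntegral_iff.mp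
      ((isIntegral_algebraMap_iff (algebraMap ℚ ℂ).injective).mp (hqc ▸ (show IsIntegral ℤ r from hAint c)))
    exact ⟨z, by rw [← hqc, ← hz]; simp⟩
  rw [show A c = (zt : ℂ) from hzt, show s = (zs : ℂ) from hzs] at hAtr hBtr
  refine arithmetic (zs := zs) (zt := zt) hk2 hkp ?_ ?_
  · apply Int.cast_injective (α := ℂ)
    push_cast
    linear_combination -hAtr
  · apply Int.cast_injective (α := ℂ)
    push_cast
    linear_combination -hBtr

end CfsgLib.SmallGroups.DegreeTwoP
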