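import Cfsg.Agent.Lib.SmallGroups.BrauerFew.Local
import Cfsg.Agent.Lib.SmallGroups.DegreeSeven
import Cfsg.Agent.S0713
import Mathlib

/-!
Primitive groups of degree `2p`: Sylow subgroups and the perfect core.
-/

set_option autoImplicit false

namespace CfsgLib.SmallGroups.DegreeTwoP

open Equiv MulAction
open CfsgLib.SmallGroups.BrauerFew (Loc)

variable {α : Type*} [Fintype α] [DecidableEq α] {p : ℕ} {G : Subgroup (Perm α)}

/-- The order of a permutation group of degree `2p` without short `p`-cycles. -/
theorem local_at_p (hp : p.Prime) (hp3 : 3 ≤ p) (hα : Fintype.card α = 2 * p)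
    (hG : IsPreprimitive G α) (hA : ¬ alternatingGroup α ≤ G) :
    (∀ g ∈ G, orderOf g = p → g.cycleType = Multiset.replicate 2 p ∧ ∀ z, g z ≠ z) ∧
      ¬ p ^ 2 ∣ Nat.card G := by
  haveI : Fact p.Prime := ⟨hp⟩
  have hcyc : ∀ g ∈ G, g.cycleType = {p} → False := fun g hg h =>
    hA (Cfsg.Agent.S0713.result G hG (p := p) hp (by omega) (by omega)
      (by rw [← Perm.card_cycleType_eq_one, h, Multiset.card_singleton])
      (by rw [← Perm.sum_cycleType, h, Multiset.sum_singleton]) hg)
  refine ⟨fun g hg ho => ?_, fun h2 => ?_⟩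
  · obtain ⟨j, hj⟩ := Perm.cycleType_prime_order (σ := g) (by rw [ho]; exact hp)
    rw [ho] at hj
    have hs : g.support.card = (j + 1) * p := by
      rw [← g.sum_cycleType, hj, Multiset.sum_replicate, smul_eq_mul]
    have hle : g.support.card ≤ 2 * p := hα ▸ Finset.card_le_univ _
    rcases Nat.eq_zero_or_pos j with rfl | hj0
    · exact (hcyc g hg hj).elim
    · have : j + 1 ≤ 2 := Nat.le_of_mul_le_mul_right (hs ▸ hle) hp.pos
      obtain rfl : j = 1 := by omega
      refine ⟨hj, fun z hz => ?_⟩
      have hu : g.support = Finset.univ := Finset.eq_univ_of_card _ (by rw [hs, hα])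
      exact Perm.mem_support.mp (hu ▸ Finset.mem_univ z) hz
  · have hf : (Nat.card (Perm α)).factorization p = 2 := by
      rw [Nat.card_perm, Nat.card_eq_fintype_card, hα, mul_comm, Nat.factorization_factorial_mul hp,
        Nat.factorization_eq_zero_of_not_dvd]
      rw [Nat.factorial_two]
      exact fun h => by have := Nat.le_of_dvd (by norm_num) h; omega
    obtain ⟨c, hc⟩ : ∃ c : Perm α, c.cycleType = {p} :=
      (Perm.exists_with_cycleType_iff α).mpr ⟨by simp; omega, by simp; omega⟩
    obtain ⟨g, hg⟩ := CfsgLib.SmallGroups.exists_conj_mem_of_pow_dvd (p := p) G (by rw [hf]; exact h2)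
      (x := c) (IsPGroup.of_card (n := 1) (by rw [Nat.card_zpowers, ← Perm.lcm_cycleType, hc]; simp))
    exact hcyc _ hg (by rw [Perm.cycleType_conj, hc])

/-- The perfect core of a primitive group of degree `2p` is transitive, with a self-centralising
element of order `p`. -/
theorem exists_core (hp : p.Prime) (hp3 : 3 ≤ p) (hα : Fintype.card α = 2 * p)
    (hG : IsPreprimitive G α) (hA : ¬ alternatingGroup α ≤ G) :
    ∃ (H : Subgroup (Perm α)) (x : H), H ≤ G ∧ (∀ g ∈ G, ∀ h ∈ H, g * h * g⁻¹ ∈ H) ∧
      MulAction.IsPretransitive H α ∧ Loc H p x := by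
  classical
  haveI : Fact p.Prime := ⟨hp⟩
  haveI := hG
  obtain ⟨hfpf, hp2⟩ := local_at_p hp hp3 hα hG hA
  haveI : Nonempty α := Fintype.card_pos_iff.mp (by omega)
  obtain ⟨a⟩ : Nonempty α := inferInstance
  have htrans : ∀ N : Subgroup G, N.Normal → N ≠ ⊥ → IsPretransitive N α := by
    intro N hN hbot
    haveI := hN
    refine IsQuasiPreprimitive.isPretransitive_of_normal fun h => hbot ?_
    rw [eq_bot_iff]
    intro d hd
    refine Subgroup.mem_bot.mpr (Subtype.ext (Equiv.ext fun z => ?_))
    have hz : z ∈ fixedPoints N α := h ▸ Set.mem_univ z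
    exact hz ⟨d, hd⟩
  have hdvd : ∀ N : Subgroup G, N.Normal → N ≠ ⊥ → 2 * p ∣ Nat.card N := by
    intro N hN hbot
    haveI := htrans N hN hbot
    rw [← hα, ← Nat.card_eq_fintype_card (α := α), ← index_stabilizer_of_transitive (G := N) a]
    exact Subgroup.index_dvd_card _
  -- no abelian normal subgroup
  have hnoab : ∀ N : Subgroup G, N.Normal → IsMulCommutative N → N = ⊥ := by
    intro N hN hcomm
    by_contra hbot
    haveI := hN
    obtain ⟨S⟩ : Nonempty (Sylow p N) := inferInstance
    haveI : (S : Subgroup N).Normal := by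
      refine ⟨fun n hn g => ?_⟩
      rwa [mul_comm' g n, mul_inv_cancel_right]
    haveI := S.characteristic_of_normal inferInstance
    set Q := (S : Subgroup N).map N.subtype with hQ
    have hcardS : Nat.card Q = p := by
      rw [hQ, Subgroup.card_map_of_injective N.subtype_injective, S.card_eq_multiplicity]
      have h1 : 1 ≤ (Nat.card N).factorization p := (hp.dvd_iff_one_le_factorization Nat.card_pos.ne').mp
        ((dvd_mul_left p 2).trans (hdvd N hN hbot))
      have h2 : ¬ 2 ≤ (Nat.card N).factorization p := fun h => hp2 (((hp.pow_dvd_iff_le_factorization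
        Nat.card_pos.ne').mpr h).trans N.card_subgroup_dvd_card)
      rw [show (Nat.card N).factorization p = 1 by omega, pow_one]
    have hQn : Q.Normal := inferInstance
    have hQbot : Q ≠ ⊥ := fun h => hp.ne_one (by rw [← hcardS, h, Subgroup.card_bot])
    have := hdvd Q hQn hQbot
    rw [hcardS] at this
    have := Nat.le_of_dvd hp.pos this
    omega
  -- the perfect core
  obtain ⟨k, hk⟩ : ∃ k, derivedSeries G (k + 1) = derivedSeries G k := by
    by_contra hall
    push Not at hall
    have : ∀ k, Nat.card (derivedSeries G k) + k ≤ Nat.card G := by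
      intro k
      induction k with
      | zero => simp [derivedSeries_zero]
      | succ k ih =>
        have hle : derivedSeries G (k + 1) ≤ derivedSeries G k := derivedSeries_antitone G (Nat.le_succ k)
        have hlt : Nat.card (derivedSeries G (k + 1)) < Nat.card (derivedSeries G k) :=
          lt_of_le_of_ne (Subgroup.card_le_of_le hle) fun h =>
            hall k (Subgroup.eq_of_le_of_card_ge hle h.ge)
        omega
    have := this (Nat.card G + 1)
    omega
  set D := derivedSeries G k with hD
  haveI hDn : D.Normal := derivedSeries_normal G k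
  have hDne : D ≠ ⊥ := by
    intro h
    have hex : ∃ n, derivedSeries G n = ⊥ := ⟨k, h⟩
    obtain ⟨j, hj⟩ : ∃ j, Nat.find hex = j + 1 := Nat.exists_eq_succ_of_ne_zero (by
      intro h0
      have := Nat.find_spec hex
      rw [h0, derivedSeries_zero] at this
      have h1 : Nat.card G = 1 := by
        rw [← Subgroup.card_top (G := G), this, Subgroup.card_bot]
      have h2 : p ∣ Nat.card G := by
        haveI : IsPretransitive G α := hG.toIsPretransitive
        refine (dvd_mul_left p 2).trans ?_
        rw [← hα, ← Nat.card_eq_fintype_card (α := α), ← index_stabilizer_of_transitive (G := G) a]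
        exact Subgroup.index_dvd_card _
      rw [h1] at h2
      exact hp.not_dvd_one h2)
    have hne : derivedSeries G j ≠ ⊥ := Nat.find_min hex (by omega)
    have hab : ⁅derivedSeries G j, derivedSeries G j⁆ = ⊥ := by
      have := Nat.find_spec hex
      rwa [hj, derivedSeries_succ] at this
    refine hne (hnoab _ (derivedSeries_normal G j) ⟨⟨fun u v => ?_⟩⟩)
    exact Subtype.ext (Subgroup.mem_centralizer_iff.mp
      ((Subgroup.commutator_eq_bot_iff_le_centralizer.mp hab) v.2) u u.2)
  haveI := htrans D hDn hDne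
  have hperfD : ⁅D, D⁆ = D := by rw [← derivedSeries_succ]; exact hk
  set H := D.map G.subtype with hH
  have hHG : H ≤ G := Subgroup.map_subtype_le D
  have hperf : commutator H = ⊤ := by
    apply Subgroup.map_injective H.subtype_injective
    rw [commutator_def, Subgroup.map_commutator, ← MonoidHom.range_eq_map, Subgroup.range_subtype, hH,
      ← Subgroup.map_commutator, hperfD]
  haveI htr : IsPretransitive H α := ⟨fun u v => by
    obtain ⟨g, hg⟩ := exists_smul_eq D u v
    exact ⟨⟨((g : G) : Perm α), Subgroup.mem_map_of_mem G.subtype g.2⟩, hg⟩⟩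
  have hHalt : ∀ h ∈ H, Perm.sign h = 1 := by
    intro h hh
    have := CfsgLib.SmallGroups.BrauerFew.linear_trivial_of_perfect hperf
      ((Units.map (Int.castRingHom ℂ).toMonoidHom).comp (Perm.sign.comp H.subtype))
    have h1 := congrArg Units.val (DFunLike.congr_fun this ⟨h, hh⟩)
    rcases Int.units_eq_one_or (Perm.sign h) with h2 | h2
    · exact h2
    · simp [h2] at h1
      norm_num at h1
  obtain ⟨x, hx⟩ := exists_prime_orderOf_dvd_card' p (G := H) (by
    refine (dvd_mul_left p 2).trans ?_
    rw [← hα, ← Nat.card_eq_fintype_card (α := α), ← index_stabilizer_of_transitive (G := H) a]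
    exact Subgroup.index_dvd_card _)
  have hx' : orderOf (x : Perm α) = p := by rw [Subgroup.orderOf_coe, hx]
  obtain ⟨hct, hxf⟩ := hfpf x (hHG x.2) hx'
  refine ⟨H, x, hHG, fun g hg h hh => ?_, htr, ⟨hperf, hx, ?_⟩⟩
  · obtain ⟨d, hd, rfl⟩ := hh
    exact ⟨⟨g, hg⟩ * d * ⟨g, hg⟩⁻¹, hDn.conj_mem d hd _, rfl⟩
  set C := Subgroup.centralizer ({x} : Set H) with hC
  have hdvdC : Nat.card C ∣ 2 * p * p := by
    have h := Equiv.Perm.nat_card_centralizer (x : Perm α)
    rw [hct, hα, Multiset.sum_replicate, smul_eq_mul, Nat.sub_self, Multiset.prod_replicate,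
      Multiset.toFinset_replicate, if_neg (by norm_num), Finset.prod_singleton,
      Multiset.count_replicate_self, Nat.factorial_zero, Nat.factorial_two] at h
    rw [show 2 * p * p = Nat.card (Subgroup.centralizer ({(x : Perm α)} : Set (Perm α))) by
      rw [h]; ring, ← Subgroup.card_map_of_injective (K := C) H.subtype_injective]
    apply Subgroup.card_dvd_of_le
    rintro _ ⟨y, hy, rfl⟩
    exact Subgroup.mem_centralizer_singleton_iff.mpr
      (congrArg Subtype.val (Subgroup.mem_centralizer_singleton_iff.mp hy))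
  have hxC : x ∈ C := Subgroup.mem_centralizer_singleton_iff.mpr rfl
  have hpC : p ∣ Nat.card C := by
    rw [← hx, ← Subgroup.orderOf_mk x hxC]
    exact orderOf_dvd_natCard _
  have hp2C : ¬ p ^ 2 ∣ Nat.card C := fun h =>
    hp2 (h.trans (C.card_subgroup_dvd_card.trans (Subgroup.card_dvd_of_le hHG)))
  have h2C : ¬ 2 ∣ Nat.card C := by
    intro h
    haveI : Fact (Nat.Prime 2) := ⟨Nat.prime_two⟩
    obtain ⟨y, hy⟩ := exists_prime_orderOf_dvd_card' 2 h
    set u : Perm α := ((y : H) : Perm α) with hu
    have huo : orderOf u = 2 := by rw [hu, Subgroup.orderOf_coe, Subgroup.orderOf_coe, hy]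
    have hcomm : ∀ z, (x : Perm α) (u z) = u ((x : Perm α) z) := fun z => by
      have h1 := congrArg Subtype.val (Subgroup.mem_centralizer_singleton_iff.mp y.2)
      exact (congrArg (fun v : Perm α => v z) h1).symm
    -- the fixed points of `u` form a union of orbits of `x`
    set S := u.supportᶜ with hS
    have hSinv : ∀ z, (x : Perm α) z ∈ S ↔ z ∈ S := fun z => by
      simp only [hS, Finset.mem_compl, Perm.notMem_support]
      rw [← hcomm, (x : Perm α).injective.eq_iff]
    have hmod : p ∣ S.card := by
      have hτ : ((x : Perm α).subtypePerm hSinv) ^ p ^ 1 = 1 := by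
        rw [pow_one, Perm.subtypePerm_pow]
        have hxp : (x : Perm α) ^ p = 1 := hx' ▸ pow_orderOf_eq_one _
        ext z
        simp [hxp]
      have h := Perm.card_compl_support_modEq hτ
      rw [Fintype.card_coe] at h
      have h0 : ((x : Perm α).subtypePerm hSinv).supportᶜ = ∅ := by
        rw [Finset.eq_empty_iff_forall_notMem]
        intro z hz
        simp only [Finset.mem_compl, Perm.mem_support, ne_eq, not_not, Subtype.ext_iff,
          Perm.subtypePerm_apply] at hz
        exact hxf z hz
      rw [h0, Finset.card_empty] at h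
      exact Nat.modEq_zero_iff_dvd.mp h.symm
    obtain ⟨j, hj⟩ := Perm.cycleType_prime_order (σ := u) (by rw [huo]; exact Nat.prime_two)
    rw [huo] at hj
    have hsu : u.support.card = (j + 1) * 2 := by
      rw [← u.sum_cycleType, hj, Multiset.sum_replicate, smul_eq_mul]
    have hsgn := hHalt u (y : H).2
    rw [Perm.sign_of_cycleType, hj, Multiset.sum_replicate, Multiset.card_replicate, smul_eq_mul] at hsgn
    have hev : Even (j + 1) := by
      rcases Nat.even_or_odd (j + 1) with he | ho
      · exact he
      · rw [Odd.neg_one_pow (by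
          have : Odd ((j + 1) * 3) := ho.mul (by decide)
          rwa [show (j + 1) * 3 = (j + 1) * 2 + (j + 1) by ring] at this)] at hsgn
        exact absurd hsgn (by decide)
    obtain ⟨i, hi⟩ := hev
    obtain ⟨q, hq⟩ := hmod
    have hcard : S.card + u.support.card = 2 * p := by
      rw [hS, Finset.card_compl, hα]
      have : u.support.card ≤ 2 * p := hα ▸ Finset.card_le_univ _
      omega
    have hodd : p % 2 = 1 := Nat.odd_iff.mp (hp.odd_of_ne_two (by omega))
    have hq2 : q < 2 := by nlinarith
    interval_cases q <;> omega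
  have hle : Subgroup.zpowers x ≤ C := Subgroup.zpowers_le.mpr hxC
  refine (Subgroup.eq_of_le_of_card_ge hle ?_).symm
  rw [Nat.card_zpowers, hx]
  obtain ⟨w, hw⟩ := hpC
  rw [hw] at hdvdC hp2C h2C ⊢
  have hw2 : w ∣ 2 * p := Nat.dvd_of_mul_dvd_mul_left hp.pos (by rwa [mul_comm (2 * p) p] at hdvdC)
  have hwp : ¬ p ∣ w := fun h => hp2C (by rw [pow_two]; exact Nat.mul_dvd_mul_left p h)
  have hw3 : w ∣ 2 := (Nat.Coprime.dvd_mul_right (hp.coprime_iff_not_dvd.mpr hwp).symm).mp hw2
  rcases (Nat.dvd_prime Nat.prime_two).mp hw3 with rfl | rfl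
  · rw [mul_one]
  · exact absurd (dvd_mul_left 2 p) h2C

end CfsgLib.SmallGroups.DegreeTwoP
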