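import Cfsg.Agent.Lib.SmallGroups.DegreeTwoP.Group
import Cfsg.Agent.Lib.SmallGroups.PermSubdegree
import Mathlib

/-!
Suborbits of a transitive normal subgroup of a primitive group, and symmetrised orbitals.
-/

set_option autoImplicit false

namespace CfsgLib.SmallGroups.DegreeTwoP

open MulAction Pointwise

section Sym

variable {G : Type*} [Group G] {Ω : Type*} [Fintype Ω] [MulAction G Ω]

/-- The symmetrised orbital of a pair, as a relation. -/
def SymRel (G : Type*) [Group G] {Ω : Type*} [MulAction G Ω] (a b x y : Ω) : Prop :=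
  (∃ g : G, g • a = x ∧ g • b = y) ∨ ∃ g : G, g • a = y ∧ g • b = x

theorem symRel_smul (a b x y : Ω) (u : G) : SymRel G a b (u • x) (u • y) ↔ SymRel G a b x y := by
  have key : ∀ (v : G) (x y : Ω), SymRel G a b x y → SymRel G a b (v • x) (v • y) := by
    rintro v x y (⟨g, h1, h2⟩ | ⟨g, h1, h2⟩)
    · exact Or.inl ⟨v * g, by rw [mul_smul, h1], by rw [mul_smul, h2]⟩
    · exact Or.inr ⟨v * g, by rw [mul_smul, h1], by rw [mul_smul, h2]⟩
  exact ⟨fun h => by simpa using key u⁻¹ _ _ h, key u x y⟩

theorem symRel_comm (a b x y : Ω) : SymRel G a b x y ↔ SymRel G a b y x := or_comm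

theorem symRel_irrefl {a b : Ω} (hab : b ≠ a) (x : Ω) : ¬ SymRel G a b x x := by
  rintro (⟨g, h1, h2⟩ | ⟨g, h1, h2⟩) <;> exact hab (MulAction.injective g (h2.trans h1.symm))

open scoped Classical in
/-- The valency of a symmetrised orbital is that of the orbital or twice it. -/
theorem symRel_valency [Fintype G] [IsPretransitive G Ω] {a b : Ω} (hab : b ≠ a) :
    (∀ x, (Finset.univ.filter fun y => SymRel G a b x y).card =
        (Finset.univ.filter fun y => SymRel G a b a y).card) ∧
      ((Finset.univ.filter fun y => SymRel G a b a y).card =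
          Nat.card (orbit (stabilizer G a) b) ∨
        (Finset.univ.filter fun y => SymRel G a b a y).card =
          2 * Nat.card (orbit (stabilizer G a) b)) ∧
      ∃ b' : Ω, b' ≠ a ∧
        (Finset.univ.filter fun y => SymRel G a b a y) =
          (Finset.univ.filter fun y => y ∈ orbit (stabilizer G a) b ∨ y ∈ orbit (stabilizer G a) b') := by
  obtain ⟨u, hu⟩ : ∃ u : G, u • b = a := exists_smul_eq G b a
  set b' := u • a with hb'
  have hfwd : ∀ y, (∃ g : G, g • a = a ∧ g • b = y) ↔ y ∈ orbit (stabilizer G a) b := by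
    intro y
    constructor
    · rintro ⟨g, h1, rfl⟩; exact ⟨⟨g, h1⟩, rfl⟩
    · rintro ⟨⟨g, h1⟩, rfl⟩; exact ⟨g, h1, rfl⟩
  have hbwd : ∀ y, (∃ g : G, g • a = y ∧ g • b = a) ↔ y ∈ orbit (stabilizer G a) b' := by
    intro y
    constructor
    · rintro ⟨g, rfl, h2⟩
      refine ⟨⟨g * u⁻¹, mem_stabilizer_iff.mpr ?_⟩, ?_⟩
      · rw [mul_smul, ← hu, inv_smul_smul, h2, hu]
      · show (g * u⁻¹) • b' = g • a
        rw [mul_smul, hb', inv_smul_smul]
    · rintro ⟨⟨h, hh⟩, rfl⟩
      exact ⟨h * u, by rw [mul_smul]; rfl, by rw [mul_smul, hu]; exact hh⟩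
  have heq : (Finset.univ.filter fun y => SymRel G a b a y) =
      (Finset.univ.filter fun y => y ∈ orbit (stabilizer G a) b ∨ y ∈ orbit (stabilizer G a) b') := by
    ext y
    simp only [Finset.mem_filter, Finset.mem_univ, true_and, SymRel, hfwd, hbwd]
  refine ⟨fun x => ?_, ?_, b', fun h => hab (MulAction.injective u (hu.trans h.symm)), heq⟩
  · obtain ⟨v, rfl⟩ := exists_smul_eq G a x
    symm
    refine Finset.card_bij (fun y _ => v • y) ?_ ?_ ?_
    · intro y hy
      simpa [symRel_smul] using hy
    · intro y _ z _ h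
      exact MulAction.injective v h
    · intro z hz
      exact ⟨v⁻¹ • z, by simpa [← symRel_smul (G := G) a b a (v⁻¹ • z) v] using hz, by simp⟩
  -- the two suborbits have equal length
  have hlen : Nat.card (orbit (stabilizer G a) b') = Nat.card (orbit (stabilizer G a) b) := by
    have htr : ∀ x y : Ω, PermOrbital.orbitalOp G a b' (Pi.single y 1) x =
        PermOrbital.orbitalOp G a b (Pi.single x 1) y := by
      intro x y
      simp only [PermOrbital.orbitalOp_single]
      refine if_congr ⟨?_, ?_⟩ rfl rfl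
      · rintro ⟨g, h1, h2⟩
        exact ⟨g * u, by rw [mul_smul, ← hb', h2], by rw [mul_smul, hu, h1]⟩
      · rintro ⟨g, h1, h2⟩
        exact ⟨g * u⁻¹, by rw [mul_smul, ← hu, inv_smul_smul, h2],
          by rw [mul_smul, hb', inv_smul_smul, h1]⟩
    have h := congrArg (fun F : Ω → ℂ => ∑ x, F x) (funext (PermOrbital.orbitalOp_row (G := G) a b'))
    simp only [htr] at h
    rw [Finset.sum_comm] at h
    simp only [PermOrbital.orbitalOp_row, Finset.sum_const, Finset.card_univ, nsmul_eq_mul] at h
    haveI : Nonempty Ω := ⟨a⟩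
    have hn : (Fintype.card Ω : ℂ) ≠ 0 := by exact_mod_cast Fintype.card_ne_zero
    exact (Nat.cast_injective (mul_left_cancel₀ hn h)).symm
  have hcard : ∀ c : Ω, (Finset.univ.filter fun y => y ∈ orbit (stabilizer G a) c).card =
      Nat.card (orbit (stabilizer G a) c) := fun c => by
    rw [Nat.card_eq_fintype_card, ← Fintype.card_subtype]
  rw [heq]
  by_cases hmem : b' ∈ orbit (stabilizer G a) b
  · left
    rw [← hcard b]
    congr 1
    ext y
    simp only [Finset.mem_filter, Finset.mem_univ, true_and]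
    rw [orbit_eq_iff.mpr hmem, or_self]
  · right
    rw [Finset.filter_or, Finset.card_union_of_disjoint, hcard, hcard, hlen, two_mul]
    rw [Finset.disjoint_left]
    intro y hy hy'
    simp only [Finset.mem_filter, Finset.mem_univ, true_and] at hy hy'
    exact hmem ((orbit_eq_iff.mpr hy) ▸ (orbit_eq_iff.mpr hy').symm ▸ mem_orbit_self b')

/-- Two suborbits only: double transitivity. -/
theorem two_transitive_of_rank_le_two [Fintype G] [IsPretransitive G Ω] (a : Ω)
    (hrank : Nat.card (orbitRel.Quotient (stabilizer G a) Ω) ≤ 2) :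
    IsMultiplyPretransitive G Ω 2 := by
  classical
  rw [is_two_pretransitive_iff]
  intro x y z w hxy hzw
  have key : ∀ y w : Ω, y ≠ a → w ≠ a → ∃ h : stabilizer G a, h • y = w := by
    intro y w hy hw
    by_contra hne
    have hne' : (Quotient.mk'' y : orbitRel.Quotient (stabilizer G a) Ω) ≠ Quotient.mk'' w := fun h => by
      obtain ⟨k, hk⟩ := Quotient.exact' h
      exact hne ⟨k⁻¹, by rw [← hk]; exact inv_smul_smul k w⟩
    have ha : ∀ v : Ω, v ≠ a → (Quotient.mk'' a : orbitRel.Quotient (stabilizer G a) Ω) ≠ Quotient.mk'' v := by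
      intro v hv h
      obtain ⟨k, hk⟩ := Quotient.exact' h
      refine hv (MulAction.injective (k : G) ?_)
      exact hk.trans (mem_stabilizer_iff.mp k.2).symm
    haveI := Fintype.ofFinite (orbitRel.Quotient (stabilizer G a) Ω)
    have h3 : ({Quotient.mk'' a, Quotient.mk'' y, Quotient.mk'' w} :
        Finset (orbitRel.Quotient (stabilizer G a) Ω)).card = 3 := by
      simp [ha y hy, ha w hw, hne']
    have := Finset.card_le_univ ({Quotient.mk'' a, Quotient.mk'' y, Quotient.mk'' w} :
        Finset (orbitRel.Quotient (stabilizer G a) Ω))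
    rw [h3, ← Nat.card_eq_fintype_card] at this
    omega
  obtain ⟨g, hg⟩ := exists_smul_eq G x a
  obtain ⟨k, hk⟩ := exists_smul_eq G z a
  obtain ⟨h, hh⟩ := key (g • y) (k • w) (fun e => hxy (MulAction.injective g (hg.trans e.symm)))
    (fun e => hzw (MulAction.injective k (hk.trans e.symm)))
  refine ⟨k⁻¹ * h * g, ?_, ?_⟩
  · rw [mul_smul, mul_smul, hg, mem_stabilizer_iff.mp h.2, ← hk, inv_smul_smul]
  · rw [mul_smul, mul_smul, show (h : G) • g • y = k • w from hh, inv_smul_smul]

end Sym

variable {α : Type*} [Fintype α] [DecidableEq α] {G H : Subgroup (Equiv.Perm α)}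

/-- The rank does not increase in an overgroup, and if it is the same then so are the suborbits. -/
theorem rank_le (hHG : H ≤ G) (a : α) :
    Nat.card (orbitRel.Quotient (stabilizer G a) α) ≤ Nat.card (orbitRel.Quotient (stabilizer H a) α) ∧
      (Nat.card (orbitRel.Quotient (stabilizer G a) α) = Nat.card (orbitRel.Quotient (stabilizer H a) α) →
        ∀ b : α, orbit (stabilizer G a) b = orbit (stabilizer H a) b) := by
  classical
  let F : orbitRel.Quotient (stabilizer H a) α → orbitRel.Quotient (stabilizer G a) α :=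
    fun q => Quotient.liftOn' q (fun b => Quotient.mk'' b) (by
      rintro b b' ⟨⟨⟨h, hh⟩, hs⟩, he⟩
      exact Quotient.sound' ⟨⟨⟨h, hHG hh⟩, hs⟩, he⟩)
  have hF : Function.Surjective F := fun q => by
    induction q using Quotient.inductionOn' with
    | h b => exact ⟨Quotient.mk'' b, rfl⟩
  refine ⟨Nat.card_le_card_of_surjective F hF, fun heq b => ?_⟩
  have hbij : Function.Bijective F := (Nat.bijective_iff_surjective_and_card F).mpr ⟨hF, heq.symm⟩
  ext y
  constructor
  · intro hy
    have : F (Quotient.mk'' y) = F (Quotient.mk'' b) := Quotient.sound' hy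
    exact Quotient.exact' (hbij.1 this)
  · rintro ⟨⟨⟨h, hh⟩, hs⟩, rfl⟩
    exact ⟨⟨⟨h, hHG hh⟩, hs⟩, rfl⟩

/-- A point stabiliser of a perfect transitive normal subgroup fixes no second point. -/
theorem no_second_fixed (hG : IsPreprimitive G α) (hHG : H ≤ G)
    (hnorm : ∀ g ∈ G, ∀ h ∈ H, g * h * g⁻¹ ∈ H) [IsPretransitive H α] {p : ℕ} (hp : p.Prime)
    (hα : Fintype.card α = 2 * p) {x : H} (L : CfsgLib.SmallGroups.BrauerFew.Loc H p x)
    {a b : α} (hb : b ≠ a) : ∃ h : H, (h : Equiv.Perm α) a = a ∧ (h : Equiv.Perm α) b ≠ b := by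
  classical
  haveI : Fact p.Prime := ⟨hp⟩
  haveI := hG
  haveI : IsPretransitive G α := hG.toIsPretransitive
  by_contra hall
  push Not at hall
  set B : Set α := {y | ∀ h : H, (h : Equiv.Perm α) a = a ↔ (h : Equiv.Perm α) y = y} with hB
  have hab : b ∈ B := by
    have hle : stabilizer H a ≤ stabilizer H b := fun h hh => hall h hh
    have heq : stabilizer H a = stabilizer H b := by
      refine Subgroup.eq_of_le_of_card_ge hle (le_of_eq ?_)
      have h1 := (stabilizer H a).card_mul_index
      have h2 := (stabilizer H b).card_mul_index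
      rw [index_stabilizer_of_transitive, ← h2, index_stabilizer_of_transitive] at h1
      haveI : Nonempty α := ⟨a⟩
      exact (Nat.eq_of_mul_eq_mul_right Nat.card_pos h1).symm
    exact fun h => SetLike.ext_iff.mp heq h
  have haB : a ∈ B := fun h => Iff.rfl
  have hblock : IsBlock G B := by
    rw [isBlock_iff_smul_eq_of_nonempty]
    rintro g ⟨z, ⟨y, hy, rfl⟩, hz⟩
    have hchar : ∀ w, w ∈ g • B ↔ ∀ h : H, (h : Equiv.Perm α) (g • y) = g • y ↔ (h : Equiv.Perm α) w = w := by
      intro w
      have hconj : ∀ (v : α) (h : H),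
          ((⟨(g : Equiv.Perm α)⁻¹ * h * g, by simpa using hnorm _ (inv_mem g.2) _ h.2⟩ : H) : Equiv.Perm α) v = v ↔
            (h : Equiv.Perm α) (g • v) = g • v := by
        intro v h
        show ((g : Equiv.Perm α)⁻¹ * h * g) v = v ↔ _
        rw [Equiv.Perm.mul_apply, Equiv.Perm.mul_apply, Equiv.Perm.inv_eq_iff_eq]
        exact Iff.rfl
      rw [Set.mem_smul_set_iff_inv_smul_mem]
      constructor
      · intro hw h
        rw [← hconj y, ← hy, hw, hconj, smul_inv_smul]
      · intro hw h
        set h' : H := ⟨(g : Equiv.Perm α) * h * (g : Equiv.Perm α)⁻¹, hnorm _ g.2 _ h.2⟩ with hh'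
        have e1 : ∀ v, (h : Equiv.Perm α) v = v ↔ (h' : Equiv.Perm α) (g • v) = g • v := fun v => by
          rw [hh']
          show _ ↔ ((g : Equiv.Perm α) * h * (g : Equiv.Perm α)⁻¹) (g • v) = g • v
          simp [Subgroup.smul_def]
        rw [hy h, e1, hw, e1 (g⁻¹ • w), smul_inv_smul]
    ext w
    rw [hchar]
    constructor
    · intro hw h
      rw [hz h, hw]
    · intro hw h
      rw [← hz h, hw]
  rcases IsPreprimitive.isTrivialBlock_of_isBlock hblock with h | h
    <;> [exact hb (h hab haB); skip]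
  have hbot : stabilizer H a = ⊥ := by
    rw [eq_bot_iff]
    intro h' hh'
    refine Subgroup.mem_bot.mpr (Subtype.ext (Equiv.ext fun w => ?_))
    have hw : w ∈ B := h ▸ Set.mem_univ w
    exact (hw h').mp hh'
  have hcard : Nat.card H = 2 * p := by
    have h1 := (stabilizer H a).card_mul_index
    rw [index_stabilizer_of_transitive, hbot, Subgroup.card_bot, one_mul, Nat.card_eq_fintype_card,
      hα] at h1
    exact h1.symm
  have hidx : (Subgroup.zpowers x).index = 2 := by
    have h1 := (Subgroup.zpowers x).card_mul_index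
    rw [L.card_zpowers_eq, hcard, mul_comm 2 p] at h1
    exact Nat.eq_of_mul_eq_mul_left hp.pos h1
  haveI : (Subgroup.zpowers x).Normal := Subgroup.normal_of_index_eq_two hidx
  haveI : IsCyclic (H ⧸ Subgroup.zpowers x) :=
    isCyclic_of_prime_card (p := 2) (hp := ⟨Nat.prime_two⟩) (by rw [← Subgroup.index_eq_card, hidx])
  letI := IsCyclic.commGroup (α := H ⧸ Subgroup.zpowers x)
  haveI : Nontrivial (H ⧸ Subgroup.zpowers x) :=
    Finite.one_lt_card_iff_nontrivial.mp (by rw [← Subgroup.index_eq_card, hidx]; norm_num)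
  refine (Group.IsSolvable.commutator_lt_top_of_nontrivial (H ⧸ Subgroup.zpowers x)).ne ?_
  rw [commutator_def, ← Subgroup.map_top_of_surjective _ (QuotientGroup.mk'_surjective (Subgroup.zpowers x)),
    ← Subgroup.map_commutator, ← commutator_def, L.perfect]

end CfsgLib.SmallGroups.DegreeTwoP
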