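import Cfsg.Agent.Lib.SmallGroups.DegreeTwoP.Graph
import Cfsg.Agent.Lib.SmallGroups.DegreeTwoP.Orbits
import Mathlib

/-!
Parameters of a symmetrised orbital, and counting of point-stabiliser orbits.
-/

set_option autoImplicit false

namespace CfsgLib.SmallGroups.DegreeTwoP

open MulAction CfsgLib.InvolChar

variable {G : Type*} [Group G] {Ω : Type*} [Fintype Ω] [MulAction G Ω]

theorem rank_le_of_cover (a : Ω) (s : Finset Ω)
    (h : ∀ y : Ω, ∃ z ∈ s, y ∈ orbit (stabilizer G a) z) :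
    Nat.card (orbitRel.Quotient (stabilizer G a) Ω) ≤ s.card := by
  rw [← Nat.card_eq_finsetCard]
  refine Nat.card_le_card_of_surjective (fun z : s => Quotient.mk'' (z : Ω)) fun q => ?_
  induction q using Quotient.inductionOn' with
  | h y =>
    obtain ⟨z, hz, hy⟩ := h y
    exact ⟨⟨z, hz⟩, Quotient.sound' (orbitRel_apply.mpr ((mem_orbit_symm).mp hy))⟩

theorem card_le_rank (a : Ω) (s : Finset Ω)
    (h : ∀ y ∈ s, ∀ z ∈ s, y ∈ orbit (stabilizer G a) z → y = z) :
    s.card ≤ Nat.card (orbitRel.Quotient (stabilizer G a) Ω) := by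
  haveI : Finite (orbitRel.Quotient (stabilizer G a) Ω) := inferInstance
  rw [← Nat.card_eq_finsetCard]
  refine Nat.card_le_card_of_injective (fun z : s => Quotient.mk'' (z : Ω)) fun y z hyz => ?_
  exact Subtype.ext (h y y.2 z z.2 (orbitRel_apply.mp (Quotient.exact' hyz)))

theorem mem_orbit_base {a y : Ω} (h : y ∈ orbit (stabilizer G a) a) : y = a := by
  obtain ⟨k, rfl⟩ := h
  exact k.2

theorem four_le_rank {a b b' z : Ω} (hb : b ≠ a) (hb' : b' ≠ a) (hz : z ≠ a)
    (h1 : b' ∉ orbit (stabilizer G a) b) (h2 : z ∉ orbit (stabilizer G a) b)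
    (h3 : z ∉ orbit (stabilizer G a) b') :
    4 ≤ Nat.card (orbitRel.Quotient (stabilizer G a) Ω) := by
  classical
  have hcard : ({a, b, b', z} : Finset Ω).card = 4 := by
    have e1 : b ≠ b' := fun e => h1 (e ▸ mem_orbit_self b)
    have e2 : b ≠ z := fun e => h2 (e ▸ mem_orbit_self b)
    have e3 : b' ≠ z := fun e => h3 (e ▸ mem_orbit_self b')
    simp [hb.symm, hb'.symm, hz.symm, e1, e2, e3]
  rw [← hcard]
  refine card_le_rank a _ ?_
  simp only [Finset.mem_insert, Finset.mem_singleton]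
  rintro u (rfl | rfl | rfl | rfl) v (rfl | rfl | rfl | rfl) huv <;>
    first
    | rfl
    | exact absurd (mem_orbit_base huv) ‹_›
    | exact absurd (mem_orbit_base (mem_orbit_symm.mp huv)) ‹_›
    | exact absurd huv h1
    | exact absurd huv h2
    | exact absurd huv h3
    | exact absurd (mem_orbit_symm.mp huv) h1
    | exact absurd (mem_orbit_symm.mp huv) h2
    | exact absurd (mem_orbit_symm.mp huv) h3

theorem sq_unique {a a' : ℕ} (h : 2 * a ^ 2 + 2 * a + 1 = 2 * a' ^ 2 + 2 * a' + 1) : a = a' := by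
  rcases lt_trichotomy a a' with hlt | heq | hgt
  · nlinarith
  · exact heq
  · nlinarith

open scoped Classical in
/-- A symmetrised orbital with at least two neighbours and two non-neighbours has Wielandt's
parameters, if the permutation character is `1 + c + S`. -/
theorem orbital_params [Fintype G] [IsPretransitive G Ω] {p : ℕ} (hp3 : 3 ≤ p)
    (hΩ : Fintype.card Ω = 2 * p) (c : Cfsg.IrrCharacter G) (S : Finset (Cfsg.IrrCharacter G))
    (hc1 : c ≠ CfsgLib.Char.irrOne) (hS1 : CfsgLib.Char.irrOne ∉ S) (hcS : c ∉ S)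
    (hmc : Cfsg.classInner (fun g : G => (Nat.card (MulAction.fixedBy Ω g) : ℂ)) c = 1)
    (hmS : ∀ χ ∈ S, Cfsg.classInner (fun g : G => (Nat.card (MulAction.fixedBy Ω g) : ℂ)) χ = 1)
    (hzero : ∀ χ : Cfsg.IrrCharacter G, χ ≠ CfsgLib.Char.irrOne → χ ≠ c → χ ∉ S →
      Cfsg.classInner (fun g : G => (Nat.card (MulAction.fixedBy Ω g) : ℂ)) χ = 0)
    (hdc : deg c = p) (hdS : ∑ χ ∈ S, deg χ + 1 = p)
    (hconj : ∀ χ ∈ S, ∀ χ' ∈ S, χ' = χ ∨ ∀ g : G, (χ' : G → ℂ) g = (χ : G → ℂ) g⁻¹)
    {a b y : Ω} (hb : b ≠ a) (hy : y ≠ a) (hyR : ¬ SymRel G a b a y)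
    (hmove : ∀ z : Ω, z ≠ a → ∃ h : G, h • a = a ∧ h • z ≠ z) :
    ∃ A : ℕ, 0 < A ∧ p = 2 * A ^ 2 + 2 * A + 1 ∧
      ((Finset.univ.filter fun z => SymRel G a b a z).card = A * (2 * A + 1) ∨
        (Finset.univ.filter fun z => SymRel G a b a z).card = (A + 1) * (2 * A + 1)) := by
  haveI : Nonempty Ω := ⟨a⟩
  obtain ⟨hval, -, -⟩ := symRel_valency (G := G) hb
  set k := (Finset.univ.filter fun z => SymRel G a b a z).card with hk
  set N := Finset.univ.filter fun z => SymRel G a b a z with hN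
  have hinvR : ∀ (g : G) (z : Ω), g • a = a → (SymRel G a b a (g • z) ↔ SymRel G a b a z) :=
    fun g z hg => by
      have h := symRel_smul a b a z g
      rwa [hg] at h
  have hba : b ∈ N := Finset.mem_filter.mpr ⟨Finset.mem_univ _, Or.inl ⟨1, one_smul _ _, one_smul _ _⟩⟩
  have hk2 : 2 ≤ k := by
    obtain ⟨g, hg, hgb⟩ := hmove b hb
    refine Finset.one_lt_card.mpr ⟨g • b, ?_, b, hba, hgb⟩
    exact Finset.mem_filter.mpr ⟨Finset.mem_univ _, (hinvR g b hg).mpr (Finset.mem_filter.mp hba).2⟩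
  have hk3 : k + 3 ≤ 2 * p := by
    obtain ⟨g, hg, hgy⟩ := hmove y hy
    have hdisj : Disjoint N {a, y, g • y} := by
      rw [Finset.disjoint_left]
      intro z hz hz'
      have hzR := (Finset.mem_filter.mp hz).2
      simp only [Finset.mem_insert, Finset.mem_singleton] at hz'
      rcases hz' with rfl | rfl | rfl
      · exact symRel_irrefl hb _ hzR
      · exact hyR hzR
      · exact hyR ((hinvR g y hg).mp hzR)
    have h := Finset.card_le_univ (N ∪ {a, y, g • y})
    rw [Finset.card_union_of_disjoint hdisj, hΩ, Finset.card_eq_three.mpr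
      ⟨a, y, g • y, hy.symm, fun e => hy (MulAction.injective g (hg.trans e).symm), hgy.symm, rfl⟩] at h
    exact h
  set M : Ω → Ω → ℂ := fun u v => if SymRel G a b u v then 1 else 0 with hM
  have hrow : ∀ u, ∑ v, M u v = (k : ℂ) := fun u => by
    rw [hM, Finset.sum_boole, hval u]
  by_cases hkp : k < p
  · obtain ⟨A, hA, hpA, hkA⟩ := params hp3 hΩ M (fun g u v => by simp [hM, symRel_smul])
      (fun u v => by simp [hM, symRel_comm a b u v]) (fun u v => by by_cases h : SymRel G a b u v <;> simp [hM, h])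
      (fun u => by simp [hM, symRel_irrefl hb u]) hrow hk2 hkp c S hc1 hS1 hcS hmc hmS hzero hdc hdS hconj
    exact ⟨A, hA, hpA, Or.inl hkA⟩
  · set M' : Ω → Ω → ℂ := fun u v => if u ≠ v ∧ ¬ SymRel G a b u v then 1 else 0 with hM'
    have hrow' : ∀ u, ∑ v, M' u v = ((2 * p - 1 - k : ℕ) : ℂ) := by
      intro u
      rw [hM', Finset.sum_boole]
      have h1 : (Finset.univ.filter fun v => u ≠ v ∧ ¬ SymRel G a b u v) =
          (insert u (Finset.univ.filter fun v => SymRel G a b u v))ᶜ := by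
        ext v
        simp [eq_comm]
      rw [h1, Finset.card_compl, hΩ, Finset.card_insert_of_notMem (by simp [symRel_irrefl hb u]), hval u]
      congr 1
      omega
    obtain ⟨A, hA, hpA, hkA⟩ := params hp3 hΩ M' (fun g u v => by simp [hM', symRel_smul])
      (fun u v => by simp [hM', symRel_comm a b u v, eq_comm])
      (fun u v => by by_cases h : u ≠ v ∧ ¬ SymRel G a b u v <;> simp [hM', h])
      (fun u => by simp [hM']) hrow' (by omega) (by omega) c S hc1 hS1 hcS hmc hmS hzero hdc hdS hconj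
    refine ⟨A, hA, hpA, Or.inr ?_⟩
    have : A * (2 * A + 1) + (A + 1) * (2 * A + 1) + 1 = 2 * (2 * A ^ 2 + 2 * A + 1) := by ring
    omega

end CfsgLib.SmallGroups.DegreeTwoP
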