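import Mathlib

/-!
Groups containing the alternating group, and primitive groups of degree four.
-/

set_option autoImplicit false

namespace CfsgLib.SmallGroups.DegreeTwoP

open Equiv MulAction

variable {α : Type*} [Fintype α] [DecidableEq α] {G : Subgroup (Perm α)}

theorem two_transitive_of_alternating_le (hcard : 4 ≤ Fintype.card α) (h : alternatingGroup α ≤ G) :
    IsMultiplyPretransitive G α 2 := by
  haveI := alternatingGroup.isMultiplyPretransitive α
  haveI h2 : IsMultiplyPretransitive (alternatingGroup α) α 2 :=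
    isMultiplyPretransitive_of_le (n := Nat.card α - 2)
      (by rw [Nat.card_eq_fintype_card]; omega) (Nat.sub_le _ _)
  rw [is_two_pretransitive_iff] at h2 ⊢
  intro x y z w hxy hzw
  obtain ⟨g, h1, h3⟩ := h2 hxy hzw
  exact ⟨⟨g, h g.2⟩, h1, h3⟩

theorem alternating_le_of_degree_four (hcard : Fintype.card α = 4) (hG : IsPreprimitive G α) :
    alternatingGroup α ≤ G := by
  classical
  haveI := hG
  haveI : IsPretransitive G α := hG.toIsPretransitive
  have hdvd : Nat.card G ∣ 24 := by
    have h := G.card_subgroup_dvd_card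
    rwa [Nat.card_perm, Nat.card_eq_fintype_card, Nat.card_eq_fintype_card, hcard,
      ← Nat.card_eq_fintype_card] at h
  haveI : Fact (Nat.Prime 3) := ⟨Nat.prime_three⟩
  haveI : Fact (Nat.Prime 2) := ⟨Nat.prime_two⟩
  by_cases h3 : 3 ∣ Nat.card G
  · obtain ⟨g, hg⟩ := exists_prime_orderOf_dvd_card' 3 h3
    refine Perm.alternatingGroup_le_of_isPreprimitive_of_isThreeCycle_mem hG ?_ g.2
    rw [← card_support_eq_three_iff]
    obtain ⟨j, hj⟩ := Perm.cycleType_prime_order (σ := (g : Perm α))
      (by rw [Subgroup.orderOf_coe, hg]; exact Nat.prime_three)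
    have hs := (g : Perm α).sum_cycleType
    rw [hj, Multiset.sum_replicate, smul_eq_mul, Subgroup.orderOf_coe, hg] at hs
    have hle := hcard ▸ Finset.card_le_univ (g : Perm α).support
    omega
  exfalso
  have h8 : Nat.card G ∣ 2 ^ 3 := by
    have hc : (Nat.card G).Coprime 3 := (Nat.prime_three.coprime_iff_not_dvd.mpr h3).symm
    exact hc.dvd_of_dvd_mul_right (by simpa using hdvd : Nat.card G ∣ 2 ^ 3 * 3)
  obtain ⟨k, -, hk⟩ := (Nat.dvd_prime_pow Nat.prime_two).mp h8
  haveI : Group.IsNilpotent G := (IsPGroup.of_card hk).isNilpotent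
  haveI : Nontrivial α := Fintype.one_lt_card_iff_nontrivial.mp (by omega)
  obtain ⟨a⟩ : Nonempty α := inferInstance
  have hco := (isCoatom_stabilizer_iff_preprimitive G a).mpr hG
  haveI hn := Subgroup.NormalizerCondition.normal_of_coatom _
    (Group.normalizerCondition_of_isNilpotent (G := G)) hco
  have hbot : stabilizer G a = ⊥ := by
    rw [eq_bot_iff]
    intro h hh
    refine Subgroup.mem_bot.mpr (Subtype.ext (Perm.ext fun z => ?_))
    obtain ⟨g, rfl⟩ := exists_smul_eq G a z
    have h1 := mem_stabilizer_iff.mp (hn.conj_mem h hh g⁻¹)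
    rw [inv_inv, mul_smul, mul_smul, inv_smul_eq_iff] at h1
    exact h1
  have hcard4 : Nat.card G = 4 := by
    have h1 := (stabilizer G a).card_mul_index
    rw [hbot, Subgroup.card_bot, one_mul] at h1
    rw [← h1, ← hbot, index_stabilizer_of_transitive, Nat.card_eq_fintype_card, hcard]
  obtain ⟨g, hg⟩ := exists_prime_orderOf_dvd_card' 2 (G := G) (by rw [hcard4]; norm_num)
  have htop : Subgroup.zpowers g = ⊤ := (hbot ▸ hco).2 _ (bot_lt_iff_ne_bot.mpr fun h => by
    rw [Subgroup.zpowers_eq_bot] at h
    rw [h, orderOf_one] at hg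
    omega)
  have := Nat.card_zpowers g
  rw [htop, Subgroup.card_top, hcard4, hg] at this
  omega

end CfsgLib.SmallGroups.DegreeTwoP
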