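import Cfsg.Agent.Lib.SmallGroups.DegreeTwoP.Character
import Cfsg.Agent.Lib.SmallGroups.DegreeTwoP.Params
import Cfsg.Agent.Lib.SmallGroups.DegreeTwoP.Small
import Mathlib

/-!
Wielandt's theorem on primitive groups of degree `2p`.
-/

set_option autoImplicit false

namespace CfsgLib.SmallGroups.DegreeTwoP

open Equiv MulAction CfsgLib.InvolChar

variable {α : Type*} [Fintype α] [DecidableEq α] {p : ℕ}

theorem wielandt (hp : p.Prime) (hα : Fintype.card α = 2 * p) (G : Subgroup (Perm α))
    (hG : IsPreprimitive G α) (a₀ : α) :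
    IsMultiplyPretransitive G α 2 ∨
      (Nat.card (orbitRel.Quotient (stabilizer G a₀) α) = 3 ∧
        ∃ a : ℕ, 0 < a ∧ p = 2 * a ^ 2 + 2 * a + 1 ∧ ∀ b : α, b ≠ a₀ →
          Nat.card (orbit (stabilizer G a₀) b) = a * (2 * a + 1) ∨
            Nat.card (orbit (stabilizer G a₀) b) = (a + 1) * (2 * a + 1)) := by
  classical
  haveI : Fact p.Prime := ⟨hp⟩
  haveI := hG
  haveI : IsPretransitive G α := hG.toIsPretransitive
  by_cases hA : alternatingGroup α ≤ G
  · exact Or.inl (two_transitive_of_alternating_le (by have := hp.two_le; omega) hA)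
  by_cases hp2 : p = 2
  · subst hp2
    exact absurd (alternating_le_of_degree_four hα hG) hA
  have hp3 : 3 ≤ p := by have := hp.two_le; omega
  obtain ⟨H, x, hHG, hnorm, htr, L⟩ := exists_core hp hp3 hα hG hA
  haveI := htr
  have hfix := (local_at_p hp hp3 hα hG hA).1
  have hfpf : ∀ h : H, orderOf h = p → ∀ z : α, h • z ≠ z := fun h ho z =>
    (hfix h (hHG h.2) (by rw [Subgroup.orderOf_coe, ho])).2 z
  have hmove : ∀ z : α, z ≠ a₀ → ∃ h : H, h • a₀ = a₀ ∧ h • z ≠ z := fun z hz =>
    no_second_fixed hG hHG hnorm hp hα L hz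
  obtain ⟨hle, heqorb⟩ := rank_le hHG a₀
  have hdone : Nat.card (orbitRel.Quotient (stabilizer H a₀) α) ≤ 2 →
      IsMultiplyPretransitive G α 2 := fun h => two_transitive_of_rank_le_two a₀ (hle.trans h)
  rcases char_cases hp3 hα L hfpf a₀ with
    h2 | ⟨c, S, hc1, hS1, hcS, hmc, hmS, hzero, hdc, hdS, hconj, hrk, hcase⟩
  · exact Or.inl (hdone h2)
  rcases hcase with hS | ⟨hS, e, hpe, hodd⟩
  · -- three suborbits
    rw [hS] at hrk
    by_cases hG3 : Nat.card (orbitRel.Quotient (stabilizer G a₀) α) ≤ 2
    · exact Or.inl (two_transitive_of_rank_le_two a₀ hG3)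
    right
    have hG3' : Nat.card (orbitRel.Quotient (stabilizer G a₀) α) = 3 := by omega
    have horb : ∀ b : α, orbit (stabilizer G a₀) b = orbit (stabilizer H a₀) b :=
      heqorb (by omega)
    have key : ∀ b : α, b ≠ a₀ → ∃ A : ℕ, 0 < A ∧ p = 2 * A ^ 2 + 2 * A + 1 ∧
        (Nat.card (orbit (stabilizer H a₀) b) = A * (2 * A + 1) ∨
          Nat.card (orbit (stabilizer H a₀) b) = (A + 1) * (2 * A + 1)) := by
      intro b hb
      obtain ⟨-, hk, b', hb', hfilter⟩ := symRel_valency (G := H) hb
      obtain ⟨y, hy, hyb⟩ : ∃ y : α, y ≠ a₀ ∧ y ∉ orbit (stabilizer H a₀) b := by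
        by_contra hall
        push Not at hall
        have := rank_le_of_cover (G := H) a₀ {a₀, b} fun y => by
          by_cases hy : y = a₀
          · exact ⟨a₀, by simp, hy ▸ mem_orbit_self _⟩
          · exact ⟨b, by simp, hall y hy⟩
        rw [Finset.card_pair hb.symm] at this
        omega
      have hbb : b' ∈ orbit (stabilizer H a₀) b := by
        by_contra hbb
        -- otherwise the two suborbits are paired, cover everything, and have equal length
        have hall : ∀ z : α, z ≠ a₀ →
            z ∈ orbit (stabilizer H a₀) b ∨ z ∈ orbit (stabilizer H a₀) b' := by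
          intro z hz
          by_contra hcon
          push Not at hcon
          have := four_le_rank (G := H) hb hb' hz hbb hcon.1 hcon.2
          omega
        have hcard : (Finset.univ.filter fun z => SymRel H a₀ b a₀ z).card + 1 = 2 * p := by
          rw [hfilter, show (Finset.univ.filter fun z => z ∈ orbit (stabilizer H a₀) b ∨
              z ∈ orbit (stabilizer H a₀) b') = Finset.univ.erase a₀ by
            ext z
            simp only [Finset.mem_filter, Finset.mem_univ, true_and, Finset.mem_erase, and_true]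
            refine ⟨?_, hall z⟩
            rintro (h | h) rfl
            · exact hb (mem_orbit_base (mem_orbit_symm.mp h))
            · exact hb' (mem_orbit_base (mem_orbit_symm.mp h))]
          rw [Finset.card_erase_of_mem (Finset.mem_univ _), Finset.card_univ, hα]
          omega
        rcases hk with hk | hk
        · have hcardb : Nat.card (orbit (stabilizer H a₀) b) =
              (Finset.univ.filter fun z => z ∈ orbit (stabilizer H a₀) b).card := by
            rw [Nat.card_eq_fintype_card, ← Fintype.card_subtype]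
          rw [hfilter, hcardb] at hk
          refine absurd hk (ne_of_gt (Finset.card_lt_card ?_))
          rw [Finset.ssubset_iff_of_subset fun z hz => by
            simp only [Finset.mem_filter, Finset.mem_univ, true_and] at hz ⊢
            exact Or.inl hz]
          exact ⟨b', by simp, by simpa using hbb⟩
        · omega
      have hyR : ¬ SymRel H a₀ b a₀ y := fun h => by
        have hmem : y ∈ Finset.univ.filter fun z => SymRel H a₀ b a₀ z := by simpa using h
        rw [hfilter, Finset.mem_filter, orbit_eq_iff.mpr hbb, or_self] at hmem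
        exact hyb hmem.2
      obtain ⟨A, hA0, hpA, hkA⟩ := orbital_params hp3 hα c S hc1 hS1 hcS hmc hmS hzero hdc hdS
        hconj hb hy hyR hmove
      have hcard : (Finset.univ.filter fun z => SymRel H a₀ b a₀ z).card =
          Nat.card (orbit (stabilizer H a₀) b) := by
        rw [hfilter]
        simp only [orbit_eq_iff.mpr hbb, or_self]
        rw [Nat.card_eq_fintype_card, ← Fintype.card_subtype]
      exact ⟨A, hA0, hpA, hcard ▸ hkA⟩
    haveI : Nontrivial α := Fintype.one_lt_card_iff_nontrivial.mp (by omega)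
    obtain ⟨b₀, hb₀⟩ := exists_ne a₀
    obtain ⟨A, hA0, hpA, -⟩ := key b₀ hb₀
    refine ⟨hG3', A, hA0, hpA, fun b hb => ?_⟩
    obtain ⟨A', -, hpA', hres⟩ := key b hb
    rw [horb b, sq_unique (hpA.symm.trans hpA')]
    exact hres
  · -- four suborbits do not occur
    exfalso
    rw [hS] at hrk
    haveI : Nontrivial α := Fintype.one_lt_card_iff_nontrivial.mp (by omega)
    obtain ⟨b, hb⟩ := exists_ne a₀
    obtain ⟨-, -, b', -, hfilter⟩ := symRel_valency (G := H) hb
    obtain ⟨y, hy, hyR⟩ : ∃ y : α, y ≠ a₀ ∧ ¬ SymRel H a₀ b a₀ y := by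
      by_contra hall
      push Not at hall
      have := rank_le_of_cover (G := H) a₀ {a₀, b, b'} fun y => by
        by_cases hy : y = a₀
        · exact ⟨a₀, by simp, hy ▸ mem_orbit_self _⟩
        · have hmem : y ∈ Finset.univ.filter fun z => SymRel H a₀ b a₀ z := by simpa using hall y hy
          rw [hfilter, Finset.mem_filter] at hmem
          rcases hmem.2 with h | h
          · exact ⟨b, by simp, h⟩
          · exact ⟨b', by simp, h⟩
      have h3 : ({a₀, b, b'} : Finset α).card ≤ 3 := Finset.card_le_three
      omega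
    obtain ⟨A, -, hpA, -⟩ := orbital_params hp3 hα c S hc1 hS1 hcS hmc hmS hzero hdc hdS
      hconj hb hy hyR hmove
    obtain ⟨w, hw⟩ := hodd
    obtain ⟨v, hv⟩ := Nat.even_mul_succ_self A
    rw [hw] at hpe
    rw [show 2 * A ^ 2 + 2 * A + 1 = 2 * (A * (A + 1)) + 1 by ring, hv] at hpA
    omega

end CfsgLib.SmallGroups.DegreeTwoP
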